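import Groth.Agent.ShriekProper.OpenBC
import Groth.Agent.PBCLib.Fibration
import Groth.Agent.S0385
import Groth.Agent.PBCCons.Torsion

/-!
# Direct images with proper support along quasi-finite maps are acyclic: the finite case
-/

set_option autoImplicit false
set_option backward.isDefEq.respectTransparency false
set_option backward.isDefEq.respectTransparency.types false
set_option linter.style.haveILetI false
set_option linter.unusedSectionVars false
set_option maxHeartbeats 1000000

universe u

open CategoryTheory CategoryTheory.Limits AlgebraicGeometry Opposite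

attribute [local instance] Groth.Agent.S0101.result

noncomputable section

namespace Groth.Agent.ShriekProper

/-- An exact functor after a direct image. -/
theorem isZero_Rpush_comp_exact {A B C : Scheme.{u}} (φ : A ⟶ B) (π : B ⟶ C)
    [PreservesFiniteColimits (EtCoh.push π)] (G : EtCoh.Ab A) (q : ℕ) (h : IsZero ((EtCoh.Rpush φ q).obj G)) :
    IsZero ((EtCoh.Rpush (φ ≫ π) q).obj G) := by
  haveI : (EtCoh.push π).IsRightAdjoint := (EtCoh.pullPushAdj π).isRightAdjoint
  haveI : PreservesFiniteLimits (EtCoh.push π) := inferInstance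
  let R := InjectiveResolution.of G
  let K := ((EtCoh.push φ).mapHomologicalComplex (ComplexShape.up ℕ)).obj R.cocomplex
  have hK : K.ExactAt q := (HomologicalComplex.exactAt_iff_isZero_homology _ _).2
    (h.of_iso (R.isoRightDerivedObj (EtCoh.push φ) q).symm)
  have hπK : (((EtCoh.push π).mapHomologicalComplex (ComplexShape.up ℕ)).obj K).ExactAt q := by
    haveI : (EtCoh.push π).PreservesHomology := inferInstance
    exact hK.map (EtCoh.push π)
  refine ((HomologicalComplex.exactAt_iff_isZero_homology _ _).1 hπK).of_iso ?_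
  exact R.isoRightDerivedObj (EtCoh.push (φ ≫ π)) q ≪≫
    (HomologicalComplex.homologyFunctor _ _ q).mapIso
      ((NatIso.mapHomologicalComplex (EtCoh.pushComp π φ) (ComplexShape.up ℕ)).app R.cocomplex).symm

/-- A quasi-finite `m` above a quasi-finite `g` keeps the acyclicity, the case of a quasi-compact base. -/
theorem isZero_Rpush_lowerShriek_qf {W V X Y : Scheme.{u}} [CompactSpace Y] [QuasiSeparatedSpace Y]
    (f : X ⟶ Y) [IsProper f] (gV : V ⟶ Y) [IsSeparated gV] [LocallyOfFiniteType gV] [LocallyQuasiFinite gV]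
    [QuasiCompact gV] (fW : W ⟶ V) [IsProper fW] (m : W ⟶ X) [IsSeparated m] [LocallyOfFiniteType m]
    [LocallyQuasiFinite m] (w : m ≫ f = fW ≫ gV) (J : EtCoh.Ab W) (hJ : EtCoh.IsTorsion J) (q : ℕ)
    (hac : IsZero ((EtCoh.Rpush fW q).obj J)) :
    IsZero ((EtCoh.Rpush f q).obj ((EtShriek.lowerShriek m).obj J)) := by
  obtain ⟨T, j, π, hj, -, hπ, hjπ⟩ := Groth.Agent.S0385.result gV
  let XT := pullback f π
  let fT : XT ⟶ T := pullback.snd f π
  let πX : XT ⟶ X := pullback.fst f π
  let U := pullback fT j
  let jX : U ⟶ XT := pullback.fst fT j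
  let fU : U ⟶ V := pullback.snd fT j
  let t₀ : W ⟶ XT := pullback.lift m (fW ≫ j) (by rw [Category.assoc, hjπ, w])
  let t : W ⟶ U := pullback.lift t₀ fW (pullback.lift_snd _ _ _)
  have ht₁ : t ≫ jX = t₀ := pullback.lift_fst _ _ _
  have ht₂ : t ≫ fU = fW := pullback.lift_snd _ _ _
  have ht₀ : t₀ ≫ πX = m := pullback.lift_fst _ _ _
  haveI : IsProper fT := MorphismProperty.pullback_snd _ _ inferInstance
  haveI : IsProper fU := MorphismProperty.pullback_snd _ _ inferInstance
  haveI : IsFinite πX := MorphismProperty.pullback_fst _ _ hπ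
  haveI : IsOpenImmersion jX := MorphismProperty.pullback_fst _ _ hj
  haveI : IsProper (t ≫ fU) := by rw [ht₂]; infer_instance
  haveI : IsProper t := IsProper.of_comp t fU
  haveI : LocallyQuasiFinite (t ≫ jX ≫ πX) := by rw [← Category.assoc, ht₁, ht₀]; infer_instance
  haveI : LocallyQuasiFinite t := LocallyQuasiFinite.of_comp t (jX ≫ πX)
  haveI : IsFinite t := IsFinite.of_isProper_of_locallyQuasiFinite t
  haveI := PBCLib.preservesFiniteColimits_push_integral t
  haveI := PBCLib.preservesFiniteColimits_push_integral πX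
  haveI := PBCLib.preservesFiniteColimits_push_integral π
  haveI := EtJCont.jCont jX
  haveI := EtJCont.jCont j
  haveI := isIso_extZeroToLowerShriek_open jX
  -- the sheaf on the open
  let G := (EtCoh.push t).obj J
  have hG : EtCoh.IsTorsion G := PBCCons.isTorsion_push t hJ
  have hG0 : IsZero ((EtCoh.Rpush fU q).obj G) := by
    obtain ⟨e⟩ := PBCLib.nonempty_Rpush_push_iso t fU J q
    refine IsZero.of_iso ?_ e
    rw [ht₂]
    exact hac
  have hH : IsZero ((EtCoh.Rpush fT q).obj ((EtShriek.extZero jX).obj G)) :=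
    isZero_Rpush_extZero_of_open (IsPullback.of_hasPullback fT j) G hG q hG0
  have h1 : IsZero ((EtCoh.Rpush f q).obj ((EtCoh.push πX).obj ((EtShriek.extZero jX).obj G))) := by
    obtain ⟨e⟩ := PBCLib.nonempty_Rpush_push_iso πX f ((EtShriek.extZero jX).obj G) q
    refine IsZero.of_iso ?_ e
    rw [show πX ≫ f = fT ≫ π from pullback.condition]
    exact isZero_Rpush_comp_exact fT π _ q hH
  let em : EtShriek.lowerShriek m ≅ EtCoh.push t ⋙ EtShriek.extZero jX ⋙ EtCoh.push πX :=
    eqToIso (by rw [← Category.assoc, ht₁, ht₀]) ≪≫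
      (ShriekLib.lowerShriekComp2Iso t (jX ≫ πX)).symm ≪≫
      Functor.isoWhiskerRight (ShriekLib.lowerShriekPushIso t) _ ≪≫
      Functor.isoWhiskerLeft _ ((lowerShriekPushCompIso jX πX).symm ≪≫
        Functor.isoWhiskerRight (asIso (ShriekLib.extZeroToLowerShriek jX)).symm _)
  exact h1.of_iso ((EtCoh.Rpush f q).mapIso (em.app J))

end Groth.Agent.ShriekProper
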