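import Groth.Agent.ShriekProper.Proper
import Groth.Agent.ShriekLib.Graph
import Groth.Agent.CdFieldLib.RshriekBound

/-!
# `Rf_!` computed on complexes of torsion sheaves
-/

set_option autoImplicit false
set_option backward.isDefEq.respectTransparency false
set_option backward.isDefEq.respectTransparency.types false
set_option linter.style.haveILetI false
set_option linter.unusedSectionVars false
set_option maxHeartbeats 1000000

universe u

open CategoryTheory CategoryTheory.Limits AlgebraicGeometry Opposite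

attribute [local instance] HasDerivedCategory.standard

noncomputable section

namespace Groth.Agent.ShriekProper

variable {X Y : Scheme.{u}}

/-- A complex of acyclic sheaves computes the derived direct image. -/
theorem nonempty_Rpush_Q (f : X ⟶ Y) [DCoh.HasRpushEt X f] (T : CochainComplex (EtCoh.Ab X) ℤ) (a : ℤ)
    [T.IsStrictlyGE a] (hac : ∀ (n : ℤ) (p : ℕ), IsZero ((EtCoh.Rpush f (p + 1)).obj (T.X n))) :
    Nonempty ((DCoh.RpushEt X f).obj (DerivedCategory.Q.obj T) ≅
      DerivedCategory.Q.obj (((EtCoh.push f).mapHomologicalComplex (ComplexShape.up ℤ)).obj T)) := by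
  haveI := PBCLib.isIso_unitR_of_acyclic f T a hac
  exact ⟨(DCoh.RpushEt X f).mapIso ((DerivedCategory.quotientCompQhIso _).app T).symm ≪≫
    (asIso ((BCDLib.unitR f).app ((HomotopyCategory.quotient _ (ComplexShape.up ℤ)).obj T))).symm ≪≫
      (DerivedCategory.quotientCompQhIso _).app (((EtCoh.push f).mapHomologicalComplex (ComplexShape.up ℤ)).obj T)⟩

/-- A bounded below object with torsion cohomology is a complex of torsion parts of injectives. -/
theorem exists_torsion_model (E : DCoh.DEt X) (a : ℤ) [E.IsGE a] (hE : ∀ i : ℤ, EtCoh.IsTorsion (DCoh.HDEt E i)) :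
    ∃ T : CochainComplex (EtCoh.Ab X) ℤ, T.IsStrictlyGE a ∧ (∀ j, EtCoh.IsTorsion (T.X j)) ∧
      (∀ {S : Scheme.{u}} (f : X ⟶ S) [QuasiCompact f] [QuasiSeparated f] (j : ℤ) (p : ℕ),
        IsZero ((EtCoh.Rpush f (p + 1)).obj (T.X j))) ∧ Nonempty (DerivedCategory.Q.obj T ≅ E) := by
  obtain ⟨L, hL, ⟨eL⟩⟩ := DerivedCategory.exists_iso_Q_obj_of_isGE E a
  haveI := hL
  obtain ⟨C, s, hs, hJ, hCn⟩ := CochainComplex.Plus.modelCategoryQuillen.exists_quasiIso_injective L a
  haveI := hs
  haveI := hCn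
  haveI : ∀ j, Injective (C.X j) := hJ
  let eC : DerivedCategory.Q.obj C ≅ E := (asIso (DerivedCategory.Q.map s)).symm ≪≫ eL.symm
  have hC : ∀ j, EtCoh.IsTorsion (C.homology j) := fun j => PBCLib.isTorsion_of_epi
    ((DerivedCategory.homologyFunctor _ j).map eC.inv ≫
      (DerivedCategory.homologyFunctorFactors _ j).hom.app C) (hE j)
  haveI := PBCLib.quasiIso_torsComplexι C hC
  refine ⟨PBCLib.torsComplex C, (CochainComplex.isStrictlyGE_iff _ a).2 fun j hj =>
    IsZero.of_mono (PBCLib.torsι (C.X j)) (CochainComplex.isZero_of_isStrictlyGE C a j hj),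
    fun j => PBCLib.isTorsion_torsPart (C.X j), ?_, ⟨asIso (DerivedCategory.Q.map (PBCLib.torsComplexι C)) ≪≫ eC⟩⟩
  intro S f _ _ j p
  exact PBCLib.isZero_Rpush_of_divisible f (PBCLib.isTorsion_torsPart (C.X j)) (p + 1) fun m hm => by
    obtain ⟨k, hw, hS⟩ := PBCLib.exists_seq_torsPart (I := C.X j) hm
    exact ⟨_, k, hw, hS, BCVertLib.isZero_Rpush_kernel_nsmul f (C.X j) hm p⟩

variable {f : X ⟶ Y} (c : DEt.Compactification f) [PreservesFiniteLimits (EtShriek.extZero c.j)]
  [DCoh.HasRpushEt c.Xbar c.fbar]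

/-- `Rf_!` on a complex with acyclic extensions by zero. -/
theorem nonempty_Rshriek_Q (T : CochainComplex (EtCoh.Ab X) ℤ) (a : ℤ) [T.IsStrictlyGE a]
    (hac : ∀ (n : ℤ) (p : ℕ), IsZero ((EtCoh.Rpush c.fbar (p + 1)).obj ((EtShriek.extZero c.j).obj (T.X n)))) :
    Nonempty ((DEt.Rshriek c).obj (DerivedCategory.Q.obj T) ≅
      DerivedCategory.Q.obj (((EtShriek.extZero c.j ⋙ EtCoh.push c.fbar).mapHomologicalComplex (ComplexShape.up ℤ)).obj T)) := by
  haveI : PreservesColimitsOfSize.{0, 0} (EtShriek.extZero c.j) := (EtShriek.extZeroAdj c.j).leftAdjoint_preservesColimits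
  haveI : PreservesFiniteColimits (EtShriek.extZero c.j) := PreservesColimitsOfSize.preservesFiniteColimits _
  let T' : CochainComplex (EtCoh.Ab c.Xbar) ℤ :=
    ((EtShriek.extZero c.j).mapHomologicalComplex (ComplexShape.up ℤ)).obj T
  haveI : T'.IsStrictlyGE a := (CochainComplex.isStrictlyGE_iff T' a).2 fun j hj =>
    (EtShriek.extZero c.j).map_isZero (CochainComplex.isZero_of_isStrictlyGE T a j hj)
  obtain ⟨e⟩ := nonempty_Rpush_Q c.fbar T' a hac
  exact ⟨(DCoh.RpushEt c.Xbar c.fbar).mapIso ((EtShriek.extZero c.j).mapDerivedCategoryFactors.app T) ≪≫ e ≪≫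
    DerivedCategory.Q.mapIso (HomologicalComplex.Hom.isoOfComponents (fun i => Iso.refl _) (by simp [T']))⟩

theorem isIso_extZeroToLowerShriek_open (j : X ⟶ Y) [IsOpenImmersion j] [EtShriek.JCont j] :
    IsIso (ShriekLib.extZeroToLowerShriek j) :=
  ShriekLib.isIso_extZeroToLowerShriek j

/-- `fbar_* j_! = f_!`. -/
def extZeroPushIso (j : X ⟶ Y) [IsOpenImmersion j] [EtShriek.JCont j] {Z : Scheme.{u}} (h : Y ⟶ Z) [IsProper h]
    (g : X ⟶ Z) (w : j ≫ h = g) : EtShriek.extZero j ⋙ EtCoh.push h ≅ EtShriek.lowerShriek g :=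
  haveI := isIso_extZeroToLowerShriek_open j
  Functor.isoWhiskerRight (asIso (ShriekLib.extZeroToLowerShriek j)) _ ≪≫ lowerShriekPushCompIso j h ≪≫
    eqToIso (by rw [w])

/-- Extensions by zero are acyclic when the composite with the proper morphism is quasi-finite. -/
theorem isZero_Rpush_extZero_lqf (j : X ⟶ Y) [IsOpenImmersion j] [EtShriek.JCont j] {Z : Scheme.{u}} (h : Y ⟶ Z)
    [IsProper h] [LocallyQuasiFinite (j ≫ h)] (F : EtCoh.Ab X) (hF : EtCoh.IsTorsion F) (p : ℕ) :
    IsZero ((EtCoh.Rpush h (p + 1)).obj ((EtShriek.extZero j).obj F)) :=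
  haveI := isIso_extZeroToLowerShriek_open j
  (isZero_Rpush_lowerShriek j h F hF (p + 1) p.succ_pos).of_iso
    ((EtCoh.Rpush h (p + 1)).mapIso ((asIso (ShriekLib.extZeroToLowerShriek j)).app F))

end Groth.Agent.ShriekProper
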