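import Groth.Agent.ShriekProper.Support

/-!
# Direct images with proper support are acyclic for proper morphisms with quasi-finite composite
-/

set_option autoImplicit false
set_option backward.isDefEq.respectTransparency false
set_option backward.isDefEq.respectTransparency.types false
set_option linter.style.haveILetI false
set_option maxHeartbeats 1000000

universe u

open CategoryTheory CategoryTheory.Limits AlgebraicGeometry Opposite

noncomputable section

namespace Groth.Agent.ShriekProper

variable {X Y Z : Scheme.{u}} (f : X ⟶ Y) [IsSeparated f] [LocallyOfFiniteType f] [LocallyQuasiFinite f]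
  (h : Y ⟶ Z) [IsProper h]

/-- `f_! F` is acyclic for a proper `h` when `f ≫ h` is quasi-finite. -/
theorem isZero_Rpush_lowerShriek [LocallyQuasiFinite (f ≫ h)] (F : EtCoh.Ab X) (hF : EtCoh.IsTorsion F) (q : ℕ)
    (hq : 0 < q) : IsZero ((EtCoh.Rpush h q).obj ((EtShriek.lowerShriek f).obj F)) := by
  refine (EtPtsLib.isZero_iff_ab _).2 fun Ω _ _ ξ => ?_
  have hG := isTorsion_lowerShriek f hF
  obtain ⟨e⟩ := PBCLib.nonempty_stalk_Rpush_iso (fun {_ _} g _ => PBCLib.bcAll_of_proper g) h ξ
    ((EtShriek.lowerShriek f).obj F) hG q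
  let g : pullback h ξ ⟶ Spec (CommRingCat.of Ω) := pullback.snd h ξ
  haveI : LocallyOfFiniteType g := MorphismProperty.pullback_snd _ _ inferInstance
  haveI : QuasiCompact g := MorphismProperty.pullback_snd _ _ inferInstance
  haveI : IsLocallyNoetherian (pullback h ξ) := LocallyOfFiniteType.isLocallyNoetherian g
  haveI : CompactSpace ↥(pullback h ξ) := (quasiCompact_iff_compactSpace g).1 inferInstance
  haveI : IsNoetherian (pullback h ξ) := { }
  haveI : Subsingleton (EtCoh.H (pullback h ξ)
      ((EtCoh.pull (pullback.fst h ξ)).obj ((EtShriek.lowerShriek f).obj F)) q) :=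
    CdFieldLib.subsingleton_H_of_supp_below (CdFieldLib.cdLE_zero_of_sepClosed Set.univ Ω) g
      (CdFieldLib.below_all (CdFieldLib.cdLE_zero_of_sepClosed Set.univ Ω) 1) _
      (AcycCompLib.isLTorsion_pull (pullback.fst h ξ) (RpushTorsLib.isLTorsion_univ hG))
      (fun w hw => by
        show Order.height w < _
        rw [height_eq_zero_of_mem_supp_fibre f h ξ F hw]
        exact Nat.cast_pos.2 one_pos) q (by omega)
  exact (AddCommGrpCat.isZero_of_subsingleton _).of_iso e

/-- `(f ≫ h)_! = h_* f_!` for a proper `h`. -/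
def lowerShriekPushCompIso :
    EtShriek.lowerShriek f ⋙ EtCoh.push h ≅ EtShriek.lowerShriek (f ≫ h) :=
  Functor.isoWhiskerLeft _ (ShriekLib.lowerShriekPushIso h).symm ≪≫ ShriekLib.lowerShriekComp2Iso f h

end Groth.Agent.ShriekProper
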