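import Groth.Agent.ShriekProper.Acyclic
import Groth.Agent.PBCCons.Torsion
import Groth.Agent.RDerLib.Horseshoe

/-!
# Direct images with proper support commute with proper higher direct images
-/

set_option autoImplicit false
set_option backward.isDefEq.respectTransparency false
set_option backward.isDefEq.respectTransparency.types false
set_option linter.style.haveILetI false
set_option linter.unusedSectionVars false
set_option maxHeartbeats 1000000

universe u

open CategoryTheory CategoryTheory.Limits AlgebraicGeometry Opposite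

attribute [local instance] Groth.Agent.S0101.result

noncomputable section

namespace Groth.Agent.ShriekProper

variable {X Y X' Y' : Scheme.{u}} (f : X ⟶ Y) [IsProper f] (g : Y' ⟶ Y) [IsSeparated g] [LocallyOfFiniteType g]
  [LocallyQuasiFinite g] (f' : X' ⟶ Y') [IsProper f'] (g' : X' ⟶ X) [IsSeparated g'] [LocallyOfFiniteType g']
  [LocallyQuasiFinite g']

/-- `f_* g'_! = g_! f'_*`. -/
def pushShriekIso (w : g' ≫ f = f' ≫ g) :
    EtShriek.lowerShriek g' ⋙ EtCoh.push f ≅ EtCoh.push f' ⋙ EtShriek.lowerShriek g :=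
  lowerShriekPushCompIso g' f ≪≫ eqToIso (by rw [w]) ≪≫ (ShriekLib.lowerShriekComp2Iso f' g).symm ≪≫
    Functor.isoWhiskerRight (ShriekLib.lowerShriekPushIso f') _

/-- The same in degree zero of the derived functors. -/
def rpushZeroShriekIso (w : g' ≫ f = f' ≫ g) :
    EtShriek.lowerShriek g' ⋙ (EtCoh.push f).rightDerived 0 ≅
      (EtCoh.push f').rightDerived 0 ⋙ EtShriek.lowerShriek g :=
  haveI : PreservesLimitsOfSize.{0, 0} (EtCoh.push f) := (EtCoh.pullPushAdj f).rightAdjoint_preservesLimits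
  haveI : PreservesFiniteLimits (EtCoh.push f) := PreservesLimitsOfSize.preservesFiniteLimits _
  haveI : PreservesLimitsOfSize.{0, 0} (EtCoh.push f') := (EtCoh.pullPushAdj f').rightAdjoint_preservesLimits
  haveI : PreservesFiniteLimits (EtCoh.push f') := PreservesLimitsOfSize.preservesFiniteLimits _
  Functor.isoWhiskerLeft _ (EtCoh.push f).rightDerivedZeroIsoSelf ≪≫ pushShriekIso f g f' g' w ≪≫
    Functor.isoWhiskerRight (EtCoh.push f').rightDerivedZeroIsoSelf.symm _

/-- `g_! R^q f'_* = R^q f_* g'_!` on torsion sheaves, degree by degree. -/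
theorem nonempty_lowerShriek_Rpush (w : g' ≫ f = f' ≫ g) : ∀ (q : ℕ) (F : EtCoh.Ab X'), EtCoh.IsTorsion F →
    Nonempty ((EtShriek.lowerShriek g).obj ((EtCoh.Rpush f' q).obj F) ≅
      (EtCoh.Rpush f q).obj ((EtShriek.lowerShriek g').obj F))
  | 0, F, _ => ⟨((rpushZeroShriekIso f g f' g' w).app F).symm⟩
  | q + 1, F, hF => by
    haveI := ShriekLib.preservesFiniteLimits g'
    haveI := ShriekLib.preservesFiniteLimits g
    haveI := ShriekLib.preservesColimitsOfSize g'
    haveI := ShriekLib.preservesColimitsOfSize g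
    haveI : PreservesColimitsOfSize.{0, 0} (EtShriek.lowerShriek g') :=
      preservesColimitsOfSize_shrink.{0, u + 1, 0, u + 1} _
    haveI : PreservesFiniteColimits (EtShriek.lowerShriek g') := PreservesColimitsOfSize.preservesFiniteColimits _
    haveI : PreservesColimitsOfSize.{0, 0} (EtShriek.lowerShriek g) :=
      preservesColimitsOfSize_shrink.{0, u + 1, 0, u + 1} _
    haveI : PreservesFiniteColimits (EtShriek.lowerShriek g) := PreservesColimitsOfSize.preservesFiniteColimits _
    obtain ⟨J, a, ha, hJt, hJ⟩ := PBCCons.exists_pushAcyc hF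
    let S := ShortComplex.mk a (cokernel.π a) (cokernel.condition a)
    have h0 : S.ShortExact := { exact := ShortComplex.exact_of_g_is_cokernel _ (cokernelIsCokernel a) }
    have h1 := h0.map_of_exact (EtShriek.lowerShriek g')
    obtain ⟨D⟩ := RDerLib.nonempty_derivedLES (EtCoh.push f)
    obtain ⟨D'⟩ := RDerLib.nonempty_derivedLES (EtCoh.push f')
    have hz' : ∀ k : ℕ, IsZero ((EtCoh.Rpush f' (k + 1)).obj J) := fun k => hJ f' k
    have hz : ∀ k : ℕ, IsZero ((EtCoh.Rpush f (k + 1)).obj ((EtShriek.lowerShriek g').obj J)) := fun k =>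
      isZero_Rpush_lowerShriek_of_acyclic f g f' g' w J hJt (k + 1) (hz' k)
    haveI : Epi (D.δ _ h1 q (q + 1) rfl) := (D.exact₁ _ h1 q (q + 1) rfl).epi_f ((hz q).eq_of_tgt _ _)
    haveI : Epi (D'.δ _ h0 q (q + 1) rfl) := (D'.exact₁ _ h0 q (q + 1) rfl).epi_f ((hz' q).eq_of_tgt _ _)
    cases q with
    | zero =>
      let e₁ := (D.exact₃ _ h1 0 1 rfl).gIsCokernel.coconePointUniqueUpToIso (cokernelIsCokernel _)
      let e₂ := (D'.exact₃ _ h0 0 1 rfl).gIsCokernel.coconePointUniqueUpToIso (cokernelIsCokernel _)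
      let e₃ := cokernel.mapIso ((EtShriek.lowerShriek g).map (((EtCoh.push f').rightDerived 0).map S.g))
        (((EtCoh.push f).rightDerived 0).map ((EtShriek.lowerShriek g').map S.g))
        ((rpushZeroShriekIso f g f' g' w).symm.app S.X₂) ((rpushZeroShriekIso f g f' g' w).symm.app S.X₃)
        ((rpushZeroShriekIso f g f' g' w).inv.naturality S.g)
      exact ⟨(EtShriek.lowerShriek g).mapIso e₂ ≪≫ PreservesCokernel.iso (EtShriek.lowerShriek g) _ ≪≫
        e₃ ≪≫ e₁.symm⟩
    | succ k =>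
      haveI : Mono (D.δ _ h1 (k + 1) (k + 1 + 1) rfl) :=
        (D.exact₃ _ h1 (k + 1) (k + 1 + 1) rfl).mono_g ((hz k).eq_of_src _ _)
      haveI : Mono (D'.δ _ h0 (k + 1) (k + 1 + 1) rfl) :=
        (D'.exact₃ _ h0 (k + 1) (k + 1 + 1) rfl).mono_g ((hz' k).eq_of_src _ _)
      haveI := isIso_of_mono_of_epi (D.δ _ h1 (k + 1) (k + 1 + 1) rfl)
      haveI := isIso_of_mono_of_epi (D'.δ _ h0 (k + 1) (k + 1 + 1) rfl)
      obtain ⟨e⟩ := nonempty_lowerShriek_Rpush w (k + 1) (cokernel a) (PBCLib.isTorsion_of_epi (cokernel.π a) hJt)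
      exact ⟨(EtShriek.lowerShriek g).mapIso (asIso (D'.δ _ h0 (k + 1) (k + 1 + 1) rfl)).symm ≪≫ e ≪≫
        asIso (D.δ _ h1 (k + 1) (k + 1 + 1) rfl)⟩

end Groth.Agent.ShriekProper
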