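import Groth.Prelude.Def_DEt2
import Mathlib.AlgebraicGeometry.Morphisms.Immersion

/-!
# Dominating compactifications
-/

set_option autoImplicit false
set_option linter.style.haveILetI false
set_option linter.unusedSectionVars false
set_option backward.isDefEq.respectTransparency false
set_option maxHeartbeats 1600000

universe u

open CategoryTheory CategoryTheory.Limits AlgebraicGeometry

noncomputable section

namespace Groth.Agent.ShriekProper

variable {X Y Z : Scheme.{u}} {f : X ⟶ Y} {g : Y ⟶ Z}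

/-- An open immersion into a separated proper `Z` over a scheme containing the same open: the open is the full
preimage when it is scheme theoretically dense. -/
theorem preimage_opensRange_eq {Z Z₁ : Scheme.{u}} (j : X ⟶ Z) [IsOpenImmersion j] [IsDominant j]
    (h : Z ⟶ Z₁) [IsSeparated h] (j₁ : X ⟶ Z₁) [IsOpenImmersion j₁] (w : j ≫ h = j₁) :
    h ⁻¹ᵁ j₁.opensRange = j.opensRange := by
  let P := h ⁻¹ᵁ j₁.opensRange
  have hle : j.opensRange ≤ P := by
    rintro _ ⟨x, rfl⟩
    exact ⟨x, by rw [← w, Scheme.Hom.comp_apply]⟩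
  refine le_antisymm ?_ hle
  let s : X ⟶ P := IsOpenImmersion.lift P.ι j (by
    rw [Scheme.Opens.range_ι]; exact hle)
  let q : (P : Scheme.{u}) ⟶ X := IsOpenImmersion.lift j₁ (P.ι ≫ h) (by
    rintro _ ⟨z, rfl⟩
    exact z.2)
  have hsq : s ≫ q = 𝟙 X := by
    rw [← cancel_mono j₁, Category.assoc, IsOpenImmersion.lift_fac, ← Category.assoc,
      IsOpenImmersion.lift_fac, w, Category.id_comp]
  haveI : IsSeparated q :=
    haveI : IsSeparated (q ≫ j₁) := by rw [IsOpenImmersion.lift_fac]; infer_instance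
    IsSeparated.of_comp q j₁
  haveI : IsClosedImmersion (s ≫ q) := by rw [hsq]; infer_instance
  haveI : IsClosedImmersion s := IsClosedImmersion.of_comp s q
  have hd : DenseRange s := by
    intro z
    rw [P.ι.isOpenEmbedding.isInducing.closure_eq_preimage_closure_image, Set.mem_preimage]
    have h0 : Dense (Set.range j) := j.denseRange
    have e : (P.ι '' Set.range s) = Set.range j := by
      rw [← Set.range_comp]
      congr 1
      funext x
      show P.ι (s x) = j x
      rw [← Scheme.Hom.comp_apply, IsOpenImmersion.lift_fac]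
    rw [e]
    exact h0 _
  intro z hz
  obtain ⟨x, hx⟩ : (⟨z, hz⟩ : P) ∈ Set.range s := by
    rw [← s.isClosedEmbedding.isClosed_range.closure_eq]
    exact hd _
  refine ⟨x, ?_⟩
  have h1 := congrArg P.ι hx
  rw [← Scheme.Hom.comp_apply, IsOpenImmersion.lift_fac] at h1
  exact h1

/-- Two compactifications are dominated by a third one. -/
theorem exists_dominating [CompactSpace X] (hY : QuasiSeparatedSpace Y) (c₁ c₂ : DEt.Compactification f) :
    ∃ (c : DEt.Compactification f) (h₁ : c.Xbar ⟶ c₁.Xbar) (h₂ : c.Xbar ⟶ c₂.Xbar), IsProper h₁ ∧ IsProper h₂ ∧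
      h₁ ≫ c₁.fbar = c.fbar ∧ h₂ ≫ c₂.fbar = c.fbar ∧
      IsPullback c.j (𝟙 X) h₁ c₁.j ∧ IsPullback c.j (𝟙 X) h₂ c₂.j := by
  let P := pullback c₁.fbar c₂.fbar
  let t : X ⟶ P := pullback.lift c₁.j c₂.j (by rw [c₁.fac, c₂.fac])
  haveI : IsImmersion (t ≫ pullback.fst c₁.fbar c₂.fbar) := by
    rw [pullback.lift_fst]
    infer_instance
  haveI : IsImmersion t := IsImmersion.of_comp t (pullback.fst _ _)
  haveI : QuasiSeparatedSpace c₁.Xbar := quasiSeparatedSpace_of_quasiSeparated c₁.fbar
  haveI : QuasiSeparatedSpace (↑P : Scheme.{u}) := quasiSeparatedSpace_of_quasiSeparated (pullback.fst c₁.fbar c₂.fbar)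
  haveI : QuasiCompact t := quasiCompact_of_compactSpace t
  let h₁ := t.imageι ≫ pullback.fst c₁.fbar c₂.fbar
  let h₂ := t.imageι ≫ pullback.snd c₁.fbar c₂.fbar
  have w₁ : t.toImage ≫ h₁ = c₁.j := by
    rw [← Category.assoc, Scheme.Hom.toImage_imageι, pullback.lift_fst]
  have w₂ : t.toImage ≫ h₂ = c₂.j := by
    rw [← Category.assoc, Scheme.Hom.toImage_imageι, pullback.lift_snd]
  have e₂ : h₂ ≫ c₂.fbar = h₁ ≫ c₁.fbar := by
    simp only [h₁, h₂, Category.assoc, pullback.condition]
  haveI : IsProper (h₁ ≫ c₁.fbar) := inferInstance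
  refine ⟨{ Xbar := t.image, j := t.toImage, fbar := h₁ ≫ c₁.fbar, isOpenImmersion := inferInstance,
            isProper := inferInstance, fac := by rw [← Category.assoc, w₁, c₁.fac] },
    h₁, h₂, inferInstance, inferInstance, rfl, e₂, ?_, ?_⟩
  · exact (IsOpenImmersion.isPullback (𝟙 X) t.toImage c₁.j h₁ (by rw [w₁, Category.id_comp])
      (preimage_opensRange_eq t.toImage h₁ c₁.j w₁)).flip
  · exact (IsOpenImmersion.isPullback (𝟙 X) t.toImage c₂.j h₂ (by rw [w₂, Category.id_comp])
      (preimage_opensRange_eq t.toImage h₂ c₂.j w₂)).flip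

/-- A compactification of a composite lying over compactifications of the two morphisms. -/
theorem exists_compactification_comp [CompactSpace X] [QuasiSeparatedSpace Z] (cg : DEt.Compactification g)
    (cgf : DEt.Compactification (f ≫ g)) :
    ∃ (c : DEt.Compactification (f ≫ g)) (U : Scheme.{u}) (π : c.Xbar ⟶ cg.Xbar) (jU : U ⟶ c.Xbar)
      (cf : DEt.Compactification f) (e : cf.Xbar = U), IsProper π ∧ π ≫ cg.fbar = c.fbar ∧ IsOpenImmersion jU ∧
        ∃ fU : U ⟶ Y, IsPullback jU fU π cg.j ∧ cf.fbar = eqToHom e ≫ fU ∧ cf.j ≫ eqToHom e ≫ jU = c.j := by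
  let P := pullback cgf.fbar cg.fbar
  let t : X ⟶ P := pullback.lift cgf.j (f ≫ cg.j) (by rw [cgf.fac, Category.assoc, cg.fac])
  haveI : IsImmersion (t ≫ pullback.fst cgf.fbar cg.fbar) := by
    rw [pullback.lift_fst]
    infer_instance
  haveI : IsImmersion t := IsImmersion.of_comp t (pullback.fst _ _)
  haveI : QuasiSeparatedSpace cgf.Xbar := quasiSeparatedSpace_of_quasiSeparated cgf.fbar
  haveI : QuasiSeparatedSpace (↑P : Scheme.{u}) :=
    quasiSeparatedSpace_of_quasiSeparated (pullback.fst cgf.fbar cg.fbar)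
  haveI : QuasiCompact t := quasiCompact_of_compactSpace t
  let h := t.imageι ≫ pullback.fst cgf.fbar cg.fbar
  let π := t.imageι ≫ pullback.snd cgf.fbar cg.fbar
  have e : π ≫ cg.fbar = h ≫ cgf.fbar := by
    simp only [h, π, Category.assoc, pullback.condition]
  have wπ : t.toImage ≫ π = f ≫ cg.j := by
    rw [← Category.assoc, Scheme.Hom.toImage_imageι, pullback.lift_snd]
  have wh : t.toImage ≫ h = cgf.j := by
    rw [← Category.assoc, Scheme.Hom.toImage_imageι, pullback.lift_fst]
  let U := π ⁻¹ᵁ cg.j.opensRange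
  let fU : (U : Scheme.{u}) ⟶ Y := IsOpenImmersion.lift cg.j (U.ι ≫ π) (by
    rintro _ ⟨z, rfl⟩
    exact z.2)
  let s : X ⟶ U := IsOpenImmersion.lift U.ι t.toImage (by
    rw [Scheme.Opens.range_ι]
    rintro _ ⟨x, rfl⟩
    exact ⟨f x, by rw [← Scheme.Hom.comp_apply, ← Scheme.Hom.comp_apply, wπ]⟩)
  haveI : IsOpenImmersion (s ≫ U.ι) := by rw [IsOpenImmersion.lift_fac]; infer_instance
  haveI : IsOpenImmersion s := IsOpenImmersion.of_comp s U.ι
  have hU : IsPullback U.ι fU π cg.j :=
    (IsOpenImmersion.isPullback fU U.ι cg.j π (IsOpenImmersion.lift_fac _ _ _).symm (by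
      rw [Scheme.Opens.opensRange_ι])).flip
  haveI : IsProper fU := MorphismProperty.of_isPullback (P := @IsProper) hU inferInstance
  refine ⟨{ Xbar := t.image, j := t.toImage, fbar := h ≫ cgf.fbar, isOpenImmersion := inferInstance,
            isProper := inferInstance, fac := by rw [← Category.assoc, wh, cgf.fac] },
    U, π, U.ι, { Xbar := U, j := s, fbar := fU, isOpenImmersion := inferInstance, isProper := inferInstance,
                 fac := ?_ }, rfl, inferInstance, e, inferInstance, fU, hU, ?_, ?_⟩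
  · rw [← cancel_mono cg.j, Category.assoc, IsOpenImmersion.lift_fac, ← Category.assoc, IsOpenImmersion.lift_fac, wπ]
  · simp
  · simp only [eqToHom_refl, Category.id_comp]
    exact IsOpenImmersion.lift_fac _ _ _

end Groth.Agent.ShriekProper
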