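import Groth.Agent.ShriekProper.Model
import Groth.Agent.ShriekProper.Dominate
import Groth.Agent.EtSixLib.CompAb
import Groth.Agent.EtJCont.Basic
import Groth.Agent.ShriekLib.Stalk

/-!
# `Rf_!` does not depend on the compactification
-/

set_option autoImplicit false
set_option backward.isDefEq.respectTransparency false
set_option backward.isDefEq.respectTransparency.types false
set_option linter.style.haveILetI false
set_option linter.unusedSectionVars false
set_option maxHeartbeats 1000000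

universe u

open CategoryTheory CategoryTheory.Limits AlgebraicGeometry Opposite

attribute [local instance] HasDerivedCategory.standard

noncomputable section

namespace Groth.Agent.ShriekProper

variable {X Y Z : Scheme.{u}}

/-- Composition of derived direct images. -/
theorem nonempty_Rpush_comp (f : X ⟶ Y) (g : Y ⟶ Z) (h : X ⟶ Z) (w : f ≫ g = h) [DCoh.HasRpushEt X f]
    [DCoh.HasRpushEt Y g] [DCoh.HasRpushEt X h] :
    Nonempty (DCoh.RpushEt X f ⋙ DCoh.RpushEt Y g ≅ DCoh.RpushEt X h) := by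
  subst w
  haveI := EtSixLib.isIso_compMap f g
  exact ⟨(asIso (EtSix.compMap f g)).symm⟩

/-- Extension by zero is exact. -/
theorem preservesFiniteLimits_extZero (j : X ⟶ Y) [IsOpenImmersion j] [EtShriek.JCont j] :
    PreservesFiniteLimits (EtShriek.extZero j) := by
  haveI := isIso_extZeroToLowerShriek_open j
  haveI := ShriekLib.preservesFiniteLimits j
  exact preservesFiniteLimits_of_natIso (asIso (ShriekLib.extZeroToLowerShriek j)).symm

variable {f : X ⟶ Y}

/-- Passing to a compactification lying over the given one. -/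
theorem nonempty_Rshriek_dominate (c c₁ : DEt.Compactification f) (h : c.Xbar ⟶ c₁.Xbar) [IsProper h]
    (e : h ≫ c₁.fbar = c.fbar) (w : c.j ≫ h = c₁.j)
    [PreservesFiniteLimits (EtShriek.extZero c.j)] [DCoh.HasRpushEt c.Xbar c.fbar]
    [PreservesFiniteLimits (EtShriek.extZero c₁.j)] [DCoh.HasRpushEt c₁.Xbar c₁.fbar]
    (K : DCoh.DEt X) (a : ℤ) [K.IsGE a] (hK : ∀ i : ℤ, EtCoh.IsTorsion (DCoh.HDEt K i)) :
    Nonempty ((DEt.Rshriek c).obj K ≅ (DEt.Rshriek c₁).obj K) := by
  haveI := BCDLib.hasRpushEt h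
  haveI := EtJCont.jCont c.j
  haveI := EtJCont.jCont c₁.j
  haveI : LocallyQuasiFinite (c.j ≫ h) := by rw [w]; infer_instance
  obtain ⟨T, hT, hTt, -, ⟨eT⟩⟩ := exists_torsion_model K a hK
  haveI := hT
  haveI : PreservesColimitsOfSize.{0, 0} (EtShriek.extZero c.j) := (EtShriek.extZeroAdj c.j).leftAdjoint_preservesColimits
  haveI : PreservesFiniteColimits (EtShriek.extZero c.j) := PreservesColimitsOfSize.preservesFiniteColimits _
  haveI : PreservesColimitsOfSize.{0, 0} (EtShriek.extZero c₁.j) := (EtShriek.extZeroAdj c₁.j).leftAdjoint_preservesColimits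
  haveI : PreservesFiniteColimits (EtShriek.extZero c₁.j) := PreservesColimitsOfSize.preservesFiniteColimits _
  let T' : CochainComplex (EtCoh.Ab c.Xbar) ℤ :=
    ((EtShriek.extZero c.j).mapHomologicalComplex (ComplexShape.up ℤ)).obj T
  haveI : T'.IsStrictlyGE a := (CochainComplex.isStrictlyGE_iff T' a).2 fun j hj =>
    (EtShriek.extZero c.j).map_isZero (CochainComplex.isZero_of_isStrictlyGE T a j hj)
  obtain ⟨eh⟩ := nonempty_Rpush_Q h T' a fun n p => isZero_Rpush_extZero_lqf c.j h _ (hTt n) p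
  haveI := isIso_extZeroToLowerShriek_open c₁.j
  let α : EtShriek.extZero c.j ⋙ EtCoh.push h ≅ EtShriek.extZero c₁.j :=
    extZeroPushIso c.j h c₁.j w ≪≫ (asIso (ShriekLib.extZeroToLowerShriek c₁.j)).symm
  let eC : ((EtCoh.push h).mapHomologicalComplex (ComplexShape.up ℤ)).obj T' ≅
      ((EtShriek.extZero c₁.j).mapHomologicalComplex (ComplexShape.up ℤ)).obj T :=
    HomologicalComplex.Hom.isoOfComponents (fun i => α.app (T.X i))
      (fun i k _ => (α.hom.naturality (T.d i k)).symm)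
  let eα : DerivedCategory.Q.obj (((EtCoh.push h).mapHomologicalComplex (ComplexShape.up ℤ)).obj T') ≅
      (DEt.extZeroD c₁.j).obj (DerivedCategory.Q.obj T) :=
    DerivedCategory.Q.mapIso eC ≪≫ ((EtShriek.extZero c₁.j).mapDerivedCategoryFactors.app T).symm
  obtain ⟨ec⟩ := nonempty_Rpush_comp h c₁.fbar c.fbar e
  exact ⟨(DEt.Rshriek c).mapIso eT.symm ≪≫
    (DCoh.RpushEt c.Xbar c.fbar).mapIso ((EtShriek.extZero c.j).mapDerivedCategoryFactors.app T) ≪≫
    (ec.app _).symm ≪≫ (DCoh.RpushEt c₁.Xbar c₁.fbar).mapIso (eh ≪≫ eα) ≪≫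
    (DEt.Rshriek c₁).mapIso eT⟩

/-- `Rf_!` does not depend on the compactification. -/
theorem nonempty_Rshriek_indep [CompactSpace X] [QuasiSeparatedSpace Y] (c c' : DEt.Compactification f)
    [PreservesFiniteLimits (EtShriek.extZero c.j)] [DCoh.HasRpushEt c.Xbar c.fbar]
    [PreservesFiniteLimits (EtShriek.extZero c'.j)] [DCoh.HasRpushEt c'.Xbar c'.fbar]
    (K : DCoh.DEt X) (a : ℤ) [K.IsGE a] (hK : ∀ i : ℤ, EtCoh.IsTorsion (DCoh.HDEt K i)) :
    Nonempty ((DEt.Rshriek c).obj K ≅ (DEt.Rshriek c').obj K) := by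
  obtain ⟨d, h₁, h₂, p₁, p₂, e₁, e₂, q₁, q₂⟩ := exists_dominating inferInstance c c'
  haveI := p₁
  haveI := p₂
  haveI := EtJCont.jCont d.j
  haveI := preservesFiniteLimits_extZero d.j
  haveI := BCDLib.hasRpushEt d.fbar
  obtain ⟨i₁⟩ := nonempty_Rshriek_dominate d c h₁ e₁ (q₁.w.trans (Category.id_comp _)) K a hK
  obtain ⟨i₂⟩ := nonempty_Rshriek_dominate d c' h₂ e₂ (q₂.w.trans (Category.id_comp _)) K a hK
  exact ⟨i₁.symm ≪≫ i₂⟩

end Groth.Agent.ShriekProper
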