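import Groth.Agent.ShriekProper.OpenBC

/-!
# Composition of `Rf_!`
-/

set_option autoImplicit false
set_option backward.isDefEq.respectTransparency false
set_option backward.isDefEq.respectTransparency.types false
set_option linter.style.haveILetI false
set_option linter.unusedSectionVars false
set_option maxHeartbeats 1000000

universe u

open CategoryTheory CategoryTheory.Limits AlgebraicGeometry Opposite

attribute [local instance] HasDerivedCategory.standard

noncomputable section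

namespace Groth.Agent.ShriekProper

variable {X Y Z : Scheme.{u}}

theorem isGE_extZeroD (j : X ⟶ Y) [IsOpenImmersion j] [PreservesFiniteLimits (EtShriek.extZero j)]
    (K : DCoh.DEt X) (a : ℤ) [K.IsGE a] : ((DEt.extZeroD j).obj K).IsGE a := by
  haveI : PreservesColimitsOfSize.{0, 0} (EtShriek.extZero j) := (EtShriek.extZeroAdj j).leftAdjoint_preservesColimits
  haveI : PreservesFiniteColimits (EtShriek.extZero j) := PreservesColimitsOfSize.preservesFiniteColimits _
  exact (DerivedCategory.isGE_iff _ _).2 fun i hi =>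
    ((EtShriek.extZero j).map_isZero (DerivedCategory.isZero_of_isGE K a i hi)).of_iso
      ((TildeD.nu (EtShriek.extZero j) i).app K)

theorem isTorsion_extZeroD (j : X ⟶ Y) [IsOpenImmersion j] [EtShriek.JCont j]
    [PreservesFiniteLimits (EtShriek.extZero j)]
    {K : DCoh.DEt X} (hK : ∀ i : ℤ, EtCoh.IsTorsion (DCoh.HDEt K i)) (i : ℤ) :
    EtCoh.IsTorsion (DCoh.HDEt ((DEt.extZeroD j).obj K) i) := by
  haveI : PreservesColimitsOfSize.{0, 0} (EtShriek.extZero j) := (EtShriek.extZeroAdj j).leftAdjoint_preservesColimits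
  haveI : PreservesFiniteColimits (EtShriek.extZero j) := PreservesColimitsOfSize.preservesFiniteColimits _
  exact PBCLib.isTorsion_of_epi ((TildeD.nu (EtShriek.extZero j) i).app K).inv (CdFieldLib.isTorsion_extZero j (hK i))

/-- `Rg_! Rf_! = R(gf)_!`. -/
theorem nonempty_Rshriek_comp {f : X ⟶ Y} {g : Y ⟶ Z} [CompactSpace X] [QuasiSeparatedSpace Y]
    [QuasiSeparatedSpace Z] (c : DEt.Compactification f) (d : DEt.Compactification g)
    (e : DEt.Compactification (f ≫ g))
    [PreservesFiniteLimits (EtShriek.extZero c.j)] [DCoh.HasRpushEt c.Xbar c.fbar]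
    [PreservesFiniteLimits (EtShriek.extZero d.j)] [DCoh.HasRpushEt d.Xbar d.fbar]
    [PreservesFiniteLimits (EtShriek.extZero e.j)] [DCoh.HasRpushEt e.Xbar e.fbar]
    (K : DCoh.DEt X) (a : ℤ) [K.IsGE a] (hK : ∀ i : ℤ, EtCoh.IsTorsion (DCoh.HDEt K i)) :
    Nonempty ((DEt.Rshriek d).obj ((DEt.Rshriek c).obj K) ≅ (DEt.Rshriek e).obj K) := by
  obtain ⟨e', U, π, jU, cf, hU, hπ, hπe, hjU, fU, hpb, hfU, hj⟩ := exists_compactification_comp d e
  subst hU
  simp only [eqToHom_refl, Category.id_comp] at hfU hj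
  subst hfU
  haveI := hπ
  haveI := hjU
  haveI := EtJCont.jCont jU
  haveI := EtJCont.jCont cf.j
  haveI := EtJCont.jCont d.j
  haveI := EtJCont.jCont e'.j
  haveI := preservesFiniteLimits_extZero jU
  haveI := preservesFiniteLimits_extZero cf.j
  haveI := preservesFiniteLimits_extZero e'.j
  haveI := BCDLib.hasRpushEt cf.fbar
  haveI := BCDLib.hasRpushEt π
  haveI := BCDLib.hasRpushEt e'.fbar
  haveI := isGE_extZeroD cf.j K a
  obtain ⟨i₁⟩ := nonempty_Rshriek_indep c cf K a hK
  obtain ⟨i₂⟩ := nonempty_extZeroD_Rpush π d.j cf.fbar jU hpb ((DEt.extZeroD cf.j).obj K) a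
    (isTorsion_extZeroD cf.j hK)
  obtain ⟨i₃⟩ := nonempty_extZeroD_comp cf.j jU e'.j hj K
  obtain ⟨i₄⟩ := nonempty_Rpush_comp π d.fbar e'.fbar hπe
  obtain ⟨i₅⟩ := nonempty_Rshriek_indep e' e K a hK
  exact ⟨(DEt.Rshriek d).mapIso i₁ ≪≫ (DCoh.RpushEt d.Xbar d.fbar).mapIso i₂ ≪≫ i₄.app _ ≪≫
    (DCoh.RpushEt e'.Xbar e'.fbar).mapIso i₃ ≪≫ i₅⟩

end Groth.Agent.ShriekProper
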