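import Groth.Agent.RpushSumLib.Push
import Groth.Agent.ShriekProper.Comp
import Groth.Agent.DerAdjLib.MapDerived

/-!
# Direct sums of uniformly bounded below objects
-/

set_option autoImplicit false
set_option backward.isDefEq.respectTransparency false
set_option backward.isDefEq.respectTransparency.types false
set_option linter.style.haveILetI false
set_option linter.unusedSectionVars false
set_option maxHeartbeats 1000000
set_option synthInstance.maxHeartbeats 400000

universe u

open CategoryTheory CategoryTheory.Limits AlgebraicGeometry Opposite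
open Groth.Agent.SpSeqLib Groth.Agent.BCDLib

attribute [local instance] HasDerivedCategory.standard

noncomputable section

namespace Groth.Agent.ShriekProper

variable {X S : Scheme.{u}} (f : X ⟶ S)

/-- Acyclicity for sections over the preimages of affines gives acyclicity for direct images. -/
theorem isZero_Rpush_of_secAcyc (F : EtCoh.Ab X) (hF : RpushSumLib.PushAcyc f F) (p : ℕ) :
    IsZero ((EtCoh.Rpush f (p + 1)).obj F) := by
  let R := injectiveResolution F
  refine IsZero.of_iso ?_ (R.isoRightDerivedObj (EtCoh.push f) (p + 1))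
  show IsZero ((((EtCoh.push f).mapHomologicalComplex (ComplexShape.up ℕ)).obj R.cocomplex).homology (p + 1))
  rw [← HomologicalComplex.exactAt_iff_isZero_homology,
    HomologicalComplex.exactAt_iff' _ p (p + 1) (p + 1 + 1) (by simp) (by simp), EtPtsLib.exact_iff_ab]
  intro Ω _ _ ξ
  let K := ((EtCoh.push f).mapHomologicalComplex (ComplexShape.up ℕ)).obj R.cocomplex
  rw [ShortComplex.ab_exact_iff]
  intro b hb
  change ToType ((EtCoh.stalk ξ).obj (K.X (p + 1))) at b
  obtain ⟨U, l, s, rfl⟩ := (Scheme.pointSmallEtale ξ).toPresheafFiber_jointly_surjective b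
  have hb' : (Scheme.pointSmallEtale ξ).toPresheafFiber U l (K.X (p + 1 + 1)).obj
      ((K.d (p + 1) (p + 1 + 1)).hom.app (op U) s) = 0 :=
    ((Scheme.pointSmallEtale ξ).toPresheafFiber_naturality_apply (K.d (p + 1) (p + 1 + 1)).hom U l s).symm.trans hb
  rw [← map_zero ((Scheme.pointSmallEtale ξ).toPresheafFiber U l (K.X (p + 1 + 1)).obj).hom] at hb'
  obtain ⟨U₁, g₁, y, rfl, h₁⟩ := ((Scheme.pointSmallEtale ξ).toPresheafFiber_eq_iff' U l _ _).1 hb'
  obtain ⟨κ, V, g, hV, hcov⟩ := RpushSumLib.exists_affine_cover U₁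
  obtain ⟨V', g', v, hg', hv⟩ := EtPtsLib.exists_mem_of_covering hcov (EtPtsLib.liftHom ξ y default)
  obtain ⟨W, h, k, ⟨i⟩, rfl⟩ := hg'
  obtain ⟨l', rfl⟩ := EtPtsLib.exists_fiber_map_eq ξ (g i) y ((h.left) v) (by
    rw [← hv, MorphismProperty.Comma.comp_left, Scheme.Hom.comp_apply])
  have hz : (K.d (p + 1) (p + 1 + 1)).hom.app (op (V i))
      ((K.X (p + 1)).obj.map (g i ≫ g₁).op s) = 0 := by
    rw [NatTrans.naturality_apply (K.d (p + 1) (p + 1 + 1)).hom, op_comp, Functor.map_comp, ConcreteCategory.comp_apply]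
    erw [h₁]
    rw [map_zero, map_zero]
  have he := (HomologicalComplex.exactAt_iff_isZero_homology _ _).2
    ((hF (V i) (hV i) p).of_iso (R.isoRightDerivedObj (RpushSumLib.secF ((EtCoh.bc f).obj (V i))) (p + 1)).symm)
  rw [HomologicalComplex.exactAt_iff' _ p (p + 1) (p + 1 + 1) (by simp) (by simp), ShortComplex.ab_exact_iff] at he
  obtain ⟨w, hw⟩ := he _ hz
  refine ⟨(Scheme.pointSmallEtale ξ).toPresheafFiber (V i) l' (K.X p).obj w, ?_⟩
  refine ((Scheme.pointSmallEtale ξ).toPresheafFiber_naturality_apply (K.d p (p + 1)).hom (V i) l' w).trans ?_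
  refine (congrArg _ hw).trans ?_
  rw [op_comp, Functor.map_comp, ConcreteCategory.comp_apply]
  erw [(Scheme.pointSmallEtale ξ).toPresheafFiber_w_apply, (Scheme.pointSmallEtale ξ).toPresheafFiber_w_apply]
  rfl

variable [QuasiCompact f] [QuasiSeparated f]

/-- `Rf_*` preserves direct sums of uniformly bounded below objects. -/
theorem preservesColimit_RpushEt_bddBelow [DCoh.HasRpushEt X f] {ι : Type (u + 1)} (K : ι → DCoh.DEt X) (a : ℤ)
    (hK : ∀ i, (K i).IsGE a) : PreservesColimit (Discrete.functor K) (DCoh.RpushEt X f) := by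
  haveI : IsGrothendieckAbelian.{u + 1} (EtCoh.Ab X) := inferInstance
  haveI : IsGrothendieckAbelian.{u + 1} (EtCoh.Ab S) := inferInstance
  haveI := IsGrothendieckAbelian.hasColimits (EtCoh.Ab X)
  haveI := IsGrothendieckAbelian.hasColimits (EtCoh.Ab S)
  have hmodel : ∀ i, ∃ C : CochainComplex (EtCoh.Ab X) ℤ, C.IsStrictlyGE a ∧ (∀ n, Injective (C.X n)) ∧
      Nonempty (DerivedCategory.Qh.obj ((HomotopyCategory.quotient _ (ComplexShape.up ℤ)).obj C) ≅ K i) := fun i => by
    haveI := hK i
    obtain ⟨L, hL, ⟨eL⟩⟩ := DerivedCategory.exists_iso_Q_obj_of_isGE (K i) a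
    haveI := hL
    obtain ⟨C, s, hs, hJ, hCn⟩ := CochainComplex.Plus.modelCategoryQuillen.exists_quasiIso_injective L a
    haveI := hs
    exact ⟨C, hCn, hJ, ⟨(DerivedCategory.quotientCompQhIso _).app C ≪≫
      (asIso (DerivedCategory.Q.map s)).symm ≪≫ eL.symm⟩⟩
  choose I hI hinj he using hmodel
  let qX := HomotopyCategory.quotient (EtCoh.Ab X) (ComplexShape.up ℤ)
  let D : Discrete ι ⥤ CochainComplex (EtCoh.Ab X) ℤ := Discrete.functor I
  let e : D ⋙ (qX ⋙ DerivedCategory.Qh) ≅ Discrete.functor K := Discrete.natIso fun i => (he i.as).some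
  suffices PreservesColimit (D ⋙ (qX ⋙ DerivedCategory.Qh)) (DCoh.RpushEt X f) from
    preservesColimit_of_iso_diagram _ e
  haveI := RpushSumLib.preservesCoproducts_quotientQh (A := EtCoh.Ab X) ι (hresEt X)
  haveI := RpushSumLib.preservesCoproducts_quotientQh (A := EtCoh.Ab S) ι (hresEt S)
  haveI := RpushSumLib.preservesCoproducts_push f ι
  refine preservesColimit_of_preserves_colimit_cocone
    (isColimitOfPreserves (qX ⋙ DerivedCategory.Qh) (colimit.isColimit D)) ?_
  let Ψ := (EtCoh.push f).mapHomologicalComplex (ComplexShape.up ℤ) ⋙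
    HomotopyCategory.quotient (EtCoh.Ab S) (ComplexShape.up ℤ) ⋙ DerivedCategory.Qh
  haveI : PreservesColimitsOfShape (Discrete ι) Ψ := inferInstance
  let η : Ψ ⟶ (qX ⋙ DerivedCategory.Qh) ⋙ DCoh.RpushEt X f :=
    { app := fun L => (unitR f).app (qX.obj L)
      naturality := fun L M b => (unitR f).naturality (qX.map b) }
  haveI hηI : ∀ i, IsIso (η.app (D.obj i)) := fun i => by
    haveI := hI i.as
    haveI : ∀ n, Injective ((I i.as).X n) := hinj i.as
    haveI := CochainComplex.isKInjective_of_injective (I i.as) a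
    exact isIso_unitR f (I i.as)
  let c : ∀ m, Cofan fun i => (I i).X m := fun m =>
    Cofan.mk ((colimit D).X m) fun i => (colimit.ι D ⟨i⟩).f m
  have hc : ∀ m, IsColimit (c m) := fun m => isColimitCofanMkObjOfIsColimit
    (HomologicalComplex.eval (EtCoh.Ab X) (ComplexShape.up ℤ) m) _ _
    (Cofan.IsColimit.mk (Cofan.mk (colimit D) fun i => colimit.ι D ⟨i⟩)
      (fun s => colimit.desc D ⟨s.pt, Discrete.natTrans fun j => s.inj j.as⟩)
      (fun s i => colimit.ι_desc _ _)
      (fun s m' hm => (colimit.isColimit D).uniq ⟨s.pt, Discrete.natTrans fun j => s.inj j.as⟩ m'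
        fun ⟨j⟩ => hm j))
  haveI : CochainComplex.IsStrictlyGE (colimit D) a := (CochainComplex.isStrictlyGE_iff _ a).2 fun m hm => by
    refine (IsZero.iff_id_eq_zero _).2 ((hc m).hom_ext fun i => IsZero.eq_of_src ?_ _ _)
    haveI := hI i.as
    exact CochainComplex.isZero_of_isStrictlyGE (I i.as) a m hm
  haveI hηc : IsIso (η.app (colimit D)) := by
    refine PBCLib.isIso_unitR_of_acyclic f (colimit D) a fun m p => ?_
    refine isZero_Rpush_of_secAcyc f _ (fun V hV => ?_) p
    haveI := (RpushSumLib.qcqs_bc f V hV).1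
    haveI := (RpushSumLib.qcqs_bc f V hV).2
    haveI : ∀ i, Injective ((I i).X m) := fun i => hinj i m
    exact RpushSumLib.isAcyclicFor_sigma ι _ (fun i => (I i).X m) (hc m)
  let α : D ⋙ Ψ ≅ (D ⋙ qX ⋙ DerivedCategory.Qh) ⋙ DCoh.RpushEt X f :=
    NatIso.ofComponents (fun i => @asIso _ _ (Ψ.obj (D.obj i))
      ((DCoh.RpushEt X f).obj ((qX ⋙ DerivedCategory.Qh).obj (D.obj i))) (η.app (D.obj i)) (hηI i))
      (fun b => η.naturality (D.map b))
  exact IsColimit.equivOfNatIsoOfIso α (Ψ.mapCocone (colimit.cocone D))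
    ((DCoh.RpushEt X f).mapCocone ((qX ⋙ DerivedCategory.Qh).mapCocone (colimit.cocone D)))
    (Cocone.ext (@asIso _ _ (Ψ.obj (colimit D))
      ((DCoh.RpushEt X f).obj ((qX ⋙ DerivedCategory.Qh).obj (colimit D))) (η.app (colimit D)) hηc) fun i => by
      show (α.inv.app i ≫ Ψ.map (colimit.ι D i)) ≫ η.app (colimit D) =
        (DCoh.RpushEt X f).map ((qX ⋙ DerivedCategory.Qh).map (colimit.ι D i))
      rw [Category.assoc, η.naturality (colimit.ι D i)]
      exact IsIso.inv_hom_id_assoc (η.app (D.obj i)) _)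
    (isColimitOfPreserves Ψ (colimit.isColimit D))

end Groth.Agent.ShriekProper
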