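import Groth.Agent.ShriekProper.Comp
import Groth.Agent.ShriekLib.ExtZeroPull
import Groth.Agent.PBCCons.Torsion

/-!
# Base change for `Rf_!`
-/

set_option autoImplicit false
set_option backward.isDefEq.respectTransparency false
set_option backward.isDefEq.respectTransparency.types false
set_option linter.style.haveILetI false
set_option linter.unusedSectionVars false
set_option maxHeartbeats 1000000

universe u

open CategoryTheory CategoryTheory.Limits AlgebraicGeometry Opposite

attribute [local instance] HasDerivedCategory.standard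

noncomputable section

namespace Groth.Agent.ShriekProper

variable {X Y : Scheme.{u}}

theorem isGE_pullD (g : X ⟶ Y) [PreservesFiniteLimits (EtCoh.pull g)] (K : DCoh.DEt Y) (a : ℤ) [K.IsGE a] :
    ((EtBC.pullD g).obj K).IsGE a := by
  haveI := BCDLib.rightExactPull g
  exact (DerivedCategory.isGE_iff _ _).2 fun i hi =>
    ((EtCoh.pull g).map_isZero (DerivedCategory.isZero_of_isGE K a i hi)).of_iso
      ((TildeD.nu (EtCoh.pull g) i).app K)

theorem isTorsion_pullD (g : X ⟶ Y) [PreservesFiniteLimits (EtCoh.pull g)] {K : DCoh.DEt Y}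
    (hK : ∀ i : ℤ, EtCoh.IsTorsion (DCoh.HDEt K i)) (i : ℤ) :
    EtCoh.IsTorsion (DCoh.HDEt ((EtBC.pullD g).obj K) i) := by
  haveI := BCDLib.rightExactPull g
  exact PBCLib.isTorsion_of_epi ((TildeD.nu (EtCoh.pull g) i).app K).inv (PBCCons.isTorsion_pull g (hK i))

/-- Inverse image commutes with `j_!` on the derived category. -/
theorem nonempty_pullD_extZeroD {P P' U U' : Scheme.{u}} (p : P' ⟶ P) (j : U ⟶ P) (j' : U' ⟶ P') (p' : U' ⟶ U)
    [IsOpenImmersion j] [IsOpenImmersion j'] [EtShriek.JCont j] [EtShriek.JCont j'] (h : IsPullback j' p' p j)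
    [PreservesFiniteLimits (EtCoh.pull p)] [PreservesFiniteLimits (EtCoh.pull p')]
    [PreservesFiniteLimits (EtShriek.extZero j)] [PreservesFiniteLimits (EtShriek.extZero j')] (K : DCoh.DEt U) :
    Nonempty ((EtBC.pullD p).obj ((DEt.extZeroD j).obj K) ≅ (DEt.extZeroD j').obj ((EtBC.pullD p').obj K)) := by
  haveI : PreservesColimitsOfSize.{0, 0} (EtShriek.extZero j) := (EtShriek.extZeroAdj j).leftAdjoint_preservesColimits
  haveI : PreservesFiniteColimits (EtShriek.extZero j) := PreservesColimitsOfSize.preservesFiniteColimits _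
  haveI : PreservesColimitsOfSize.{0, 0} (EtShriek.extZero j') :=
    (EtShriek.extZeroAdj j').leftAdjoint_preservesColimits
  haveI : PreservesFiniteColimits (EtShriek.extZero j') := PreservesColimitsOfSize.preservesFiniteColimits _
  let T := DerivedCategory.Q.objPreimage K
  let eT : DerivedCategory.Q.obj T ≅ K := DerivedCategory.Q.objObjPreimageIso K
  let α := ShriekLib.extZeroPullIso p j j' p' h
  let eC : ((EtCoh.pull p).mapHomologicalComplex (ComplexShape.up ℤ)).obj
      (((EtShriek.extZero j).mapHomologicalComplex (ComplexShape.up ℤ)).obj T) ≅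
      ((EtShriek.extZero j').mapHomologicalComplex (ComplexShape.up ℤ)).obj
        (((EtCoh.pull p').mapHomologicalComplex (ComplexShape.up ℤ)).obj T) :=
    HomologicalComplex.Hom.isoOfComponents (fun i => α.app (T.X i))
      (fun i k _ => (α.hom.naturality (T.d i k)).symm)
  exact ⟨(EtBC.pullD p).mapIso ((DEt.extZeroD j).mapIso eT.symm ≪≫
      (EtShriek.extZero j).mapDerivedCategoryFactors.app T) ≪≫
    (EtCoh.pull p).mapDerivedCategoryFactors.app _ ≪≫ DerivedCategory.Q.mapIso eC ≪≫
    ((EtShriek.extZero j').mapDerivedCategoryFactors.app _).symm ≪≫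
    (DEt.extZeroD j').mapIso (((EtCoh.pull p').mapDerivedCategoryFactors.app T).symm ≪≫
      (EtBC.pullD p').mapIso eT)⟩

/-- Base change for `Rf_!`. -/
theorem nonempty_Rshriek_baseChange {X' Y' : Scheme.{u}} [QuasiSeparatedSpace Y'] [CompactSpace X']
    {f : X ⟶ Y} {g : Y' ⟶ Y} {f' : X' ⟶ Y'} {g' : X' ⟶ X} (hc : IsPullback g' f' f g)
    (c : DEt.Compactification f) (c' : DEt.Compactification f')
    [PreservesFiniteLimits (EtShriek.extZero c.j)] [DCoh.HasRpushEt c.Xbar c.fbar]
    [PreservesFiniteLimits (EtShriek.extZero c'.j)] [DCoh.HasRpushEt c'.Xbar c'.fbar]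
    [PreservesFiniteLimits (EtCoh.pull g)] [PreservesFiniteLimits (EtCoh.pull g')]
    (K : DCoh.DEt X) (a : ℤ) [K.IsGE a] (hK : ∀ i : ℤ, EtCoh.IsTorsion (DCoh.HDEt K i)) :
    Nonempty ((EtBC.pullD g).obj ((DEt.Rshriek c).obj K) ≅ (DEt.Rshriek c').obj ((EtBC.pullD g').obj K)) := by
  let P := pullback c.fbar g
  let gb : P ⟶ c.Xbar := pullback.fst c.fbar g
  let fb : P ⟶ Y' := pullback.snd c.fbar g
  let j' : X' ⟶ P := pullback.lift (g' ≫ c.j) f' (by rw [Category.assoc, c.fac, hc.w])
  have hj₁ : j' ≫ gb = g' ≫ c.j := pullback.lift_fst _ _ _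
  have hj₂ : j' ≫ fb = f' := pullback.lift_snd _ _ _
  have hs : IsPullback g' (j' ≫ fb) (c.j ≫ c.fbar) g := by
    rw [hj₂, c.fac]
    exact hc
  have hsq : IsPullback j' g' gb c.j :=
    (IsPullback.of_bot hs hj₁.symm (IsPullback.of_hasPullback c.fbar g)).flip
  haveI : IsOpenImmersion j' := MorphismProperty.of_isPullback (P := @IsOpenImmersion) hsq.flip inferInstance
  let d : DEt.Compactification f' :=
    { Xbar := P, j := j', fbar := fb, isOpenImmersion := inferInstance, isProper := inferInstance, fac := hj₂ }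
  haveI := EtJCont.jCont d.j
  haveI := EtJCont.jCont j'
  haveI := EtJCont.jCont c.j
  haveI := preservesFiniteLimits_extZero d.j
  haveI := preservesFiniteLimits_extZero j'
  haveI := BCDLib.hasRpushEt d.fbar
  haveI := BCDLib.hasRpushEt fb
  haveI := BCDLib.hasRpushEt g
  haveI : PreservesFiniteLimits (EtCoh.pull gb) := Groth.Agent.S0101.result gb
  haveI := isGE_extZeroD c.j K a
  haveI := isGE_pullD g' K a
  obtain ⟨adj, -⟩ := BCDLib.exists_adj c.fbar g fb gb (IsPullback.of_hasPullback c.fbar g).w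
  haveI := PBCLib.isIso_bcMap_of_torsion c.fbar g fb gb (IsPullback.of_hasPullback c.fbar g)
    (PBCLib.bcAll_of_proper c.fbar) adj ((DEt.extZeroD c.j).obj K) a (isTorsion_extZeroD c.j hK)
  obtain ⟨i₁⟩ := nonempty_pullD_extZeroD gb c.j j' g' hsq K
  obtain ⟨i₂⟩ := nonempty_Rshriek_indep d c' ((EtBC.pullD g').obj K) a (isTorsion_pullD g' hK)
  exact ⟨asIso (EtBC.bcMap c.fbar g fb gb (IsPullback.of_hasPullback c.fbar g).w adj ((DEt.extZeroD c.j).obj K)) ≪≫
    (DCoh.RpushEt P fb).mapIso i₁ ≪≫ i₂⟩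

end Groth.Agent.ShriekProper
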