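import Groth.Agent.ShriekProper.OpenBC
import Groth.Agent.RDerLib.Horseshoe
import Groth.Agent.FLCLib.Filtration

/-!
# The top direct image with proper support
-/

set_option autoImplicit false
set_option backward.isDefEq.respectTransparency false
set_option backward.isDefEq.respectTransparency.types false
set_option linter.style.haveILetI false
set_option linter.unusedSectionVars false
set_option maxHeartbeats 1000000

universe u

open CategoryTheory CategoryTheory.Limits AlgebraicGeometry Opposite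

attribute [local instance] Groth.Agent.S0101.result

noncomputable section

namespace Groth.Agent.ShriekProper

/-- Morphisms over a field do not increase heights. -/
theorem height_apply_le {k : Type u} [Field k] {W Z : Scheme.{u}} (g : Z ⟶ Spec (CommRingCat.of k))
    [LocallyOfFiniteType g] (m : W ⟶ Z) [LocallyOfFiniteType (m ≫ g)] (w : W) :
    Order.height (m w) ≤ Order.height w := by
  obtain ⟨t, ht, htr⟩ := CdFieldLib.exists_height_trdeg g (m w)
  obtain ⟨t', ht', htr'⟩ := CdFieldLib.exists_height_trdeg (m ≫ g) w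
  rw [ht, ht']
  have e : (m.residueFieldMap w).hom.comp (CdFieldLib.resHom g (m w)) = CdFieldLib.resHom (m ≫ g) w :=
    congrArg CommRingCat.Hom.hom
    (Spec.map_injective (show Spec.map (CommRingCat.ofHom (CdFieldLib.resHom g (m w)) ≫ m.residueFieldMap w) =
        Spec.map (CommRingCat.ofHom (CdFieldLib.resHom (m ≫ g) w)) by
      rw [Spec.map_comp, CdFieldLib.specMap_resHom, CdFieldLib.specMap_resHom, ← Category.assoc,
        Scheme.Hom.SpecMap_residueFieldMap_fromSpecResidueField, Category.assoc]))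
  letI := (CdFieldLib.resHom g (m w)).toAlgebra
  letI := (CdFieldLib.resHom (m ≫ g) w).toAlgebra
  let φ : Z.residueField (m w) →ₐ[k] W.residueField w :=
    AlgHom.mk' (m.residueFieldMap w).hom fun c a => by
      rw [Algebra.smul_def, Algebra.smul_def, map_mul]
      exact congrArg (· * _) (RingHom.congr_fun e c)
  have hle := trdeg_le_of_injective φ (m.residueFieldMap w).hom.injective
  exact Nat.cast_le.2 (Nat.cast_le.1 ((htr.symm.trans_le hle).trans_eq htr'))

variable {P S : Scheme.{u}}

/-- Higher direct images of sheaves with small support in the fibres. -/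
theorem isZero_Rpush_of_supp (p : P ⟶ S) [IsProper p] (n : ℕ) (G : EtCoh.Ab P) (hG : EtCoh.IsTorsion G)
    (hsupp : ∀ (Ω : Type u) [Field Ω] [IsSepClosed Ω] (ξ : Spec (CommRingCat.of Ω) ⟶ S),
      ∀ z ∈ EtPBC.supp ((EtCoh.pull (pullback.fst p ξ)).obj G), Order.height z < n) (q : ℕ) (hq : 2 * n < q + 2) :
    IsZero ((EtCoh.Rpush p q).obj G) := by
  refine (EtPtsLib.isZero_iff_ab _).2 fun Ω _ _ ξ => ?_
  obtain ⟨e⟩ := PBCLib.nonempty_stalk_Rpush_iso (fun {_ _} g _ => PBCLib.bcAll_of_proper g) p ξ G hG q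
  let g : pullback p ξ ⟶ Spec (CommRingCat.of Ω) := pullback.snd p ξ
  haveI : LocallyOfFiniteType g := MorphismProperty.pullback_snd _ _ inferInstance
  haveI : QuasiCompact g := MorphismProperty.pullback_snd _ _ inferInstance
  haveI : IsLocallyNoetherian (pullback p ξ) := LocallyOfFiniteType.isLocallyNoetherian g
  haveI : CompactSpace ↥(pullback p ξ) := (quasiCompact_iff_compactSpace g).1 inferInstance
  haveI : IsNoetherian (pullback p ξ) := { }
  haveI : Subsingleton (EtCoh.H (pullback p ξ) ((EtCoh.pull (pullback.fst p ξ)).obj G) q) :=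
    CdFieldLib.subsingleton_H_of_supp_below (CdFieldLib.cdLE_zero_of_sepClosed Set.univ Ω) g
      (CdFieldLib.below_all (CdFieldLib.cdLE_zero_of_sepClosed Set.univ Ω) n) _
      (AcycCompLib.isLTorsion_pull (pullback.fst p ξ) (RpushTorsLib.isLTorsion_univ hG))
      (fun z hz => hsupp Ω ξ z hz) q (by omega)
  exact (AddCommGrpCat.isZero_of_subsingleton _).of_iso e

/-- The points of the geometric fibre over the image of `a` have height below the fibre dimension of `a`. -/
theorem height_lt_of_fibre {A : Scheme.{u}} (p : P ⟶ S) [IsProper p] (a : A ⟶ P) [LocallyOfFiniteType (a ≫ p)]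
    (n : ℕ) (hdim : ∀ s : S, topologicalKrullDim ((a ≫ p).fiber s) < n) {Ω : Type u} [Field Ω]
    (ξ : Spec (CommRingCat.of Ω) ⟶ S) (z : ↥(pullback p ξ)) (hz : pullback.fst p ξ z ∈ Set.range a) :
    Order.height z < n := by
  obtain ⟨x, hx⟩ := hz
  let m : pullback (a ≫ p) ξ ⟶ pullback p ξ := pullback.map (a ≫ p) ξ p ξ a (𝟙 _) (𝟙 _) (by simp) (by simp)
  have hm₁ : m ≫ pullback.fst p ξ = pullback.fst (a ≫ p) ξ ≫ a := pullback.lift_fst _ _ _
  have hm₂ : m ≫ pullback.snd p ξ = pullback.snd (a ≫ p) ξ := (pullback.lift_snd _ _ _).trans (Category.comp_id _)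
  have hsq : IsPullback (pullback.fst (a ≫ p) ξ) m a (pullback.fst p ξ) :=
    IsPullback.of_bot (hm₂.symm ▸ IsPullback.of_hasPullback (a ≫ p) ξ) hm₁.symm (IsPullback.of_hasPullback p ξ)
  obtain ⟨w, -, rfl⟩ := Scheme.exists_preimage_of_isPullback hsq x z hx
  haveI : LocallyOfFiniteType (pullback.snd p ξ) := MorphismProperty.pullback_snd _ _ inferInstance
  haveI : LocallyOfFiniteType (m ≫ pullback.snd p ξ) := by
    rw [hm₂]
    exact MorphismProperty.pullback_snd _ _ inferInstance
  refine lt_of_le_of_lt (height_apply_le (pullback.snd p ξ) m w) ?_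
  have hd := hdim (ξ default)
  cases n with
  | zero =>
    exfalso
    have hne : Nonempty ↥((a ≫ p).fiber (ξ default)) := by
      have hw : (a ≫ p) (pullback.fst (a ≫ p) ξ w) = ξ default := by
        rw [← Scheme.Hom.comp_apply, pullback.condition, Scheme.Hom.comp_apply]
        exact congrArg ξ (Subsingleton.elim _ _)
      exact ⟨((a ≫ p).fiberHomeo (ξ default)).symm ⟨_, hw⟩⟩
    haveI : Nonempty (TopologicalSpace.IrreducibleCloseds ↥((a ≫ p).fiber (ξ default))) :=
      ⟨⟨closure {hne.some}, isIrreducible_singleton.closure, isClosed_closure⟩⟩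
    exact absurd hd (not_lt_of_ge (by exact_mod_cast (Order.krullDim_nonneg (α :=
      TopologicalSpace.IrreducibleCloseds ↥((a ≫ p).fiber (ξ default))))))
  | succ n =>
    have hle : topologicalKrullDim ((a ≫ p).fiber (ξ default)) ≤ n := by
      revert hd
      generalize topologicalKrullDim ((a ≫ p).fiber (ξ default)) = b
      intro hd
      induction b using WithBot.recBotCoe with
      | bot => exact bot_le
      | coe b =>
        have hb : b < (n : ℕ∞) + 1 := by exact_mod_cast hd
        exact_mod_cast Order.le_of_lt_add_one hb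
    exact lt_of_le_of_lt (CdFieldLib.height_geomFibre_le (a ≫ p) ξ hle w) (by exact_mod_cast n.lt_succ_self)

theorem isTorsion_of_mono {F G : EtCoh.Ab P} (φ : F ⟶ G) [Mono φ] (hG : EtCoh.IsTorsion G) : EtCoh.IsTorsion F :=
  PBCLib.isTorsion_of_mono φ hG

variable {X : Scheme.{u}} {f : X ⟶ S} (c : DEt.Compactification f) (d : ℕ)

/-- The top direct image with proper support is right exact. -/
theorem epi_top (hdim : ∀ s : S, topologicalKrullDim ↥(f.fiber s) ≤ d)
    {F G : EtCoh.Ab X} (hF : EtCoh.IsTorsion F) (φ : F ⟶ G) [Epi φ] :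
    Epi ((EtCoh.Rpush c.fbar (2 * d)).map ((EtShriek.extZero c.j).map φ)) := by
  haveI := EtJCont.jCont c.j
  haveI := preservesFiniteLimits_extZero c.j
  haveI : PreservesColimitsOfSize.{0, 0} (EtShriek.extZero c.j) := (EtShriek.extZeroAdj c.j).leftAdjoint_preservesColimits
  haveI : PreservesFiniteColimits (EtShriek.extZero c.j) := PreservesColimitsOfSize.preservesFiniteColimits _
  have h0 : (ShortComplex.mk (kernel.ι φ) φ (kernel.condition φ)).ShortExact :=
    { exact := ShortComplex.exact_of_f_is_kernel _ (kernelIsKernel φ) }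
  have h1 := h0.map_of_exact (EtShriek.extZero c.j)
  obtain ⟨D⟩ := RDerLib.nonempty_derivedLES (EtCoh.push c.fbar)
  haveI : LocallyOfFiniteType (c.j ≫ c.fbar) := inferInstance
  have hz : IsZero ((EtCoh.Rpush c.fbar (2 * d + 1)).obj ((EtShriek.extZero c.j).obj (kernel φ))) :=
    CdFieldLib.isZero_Rpush_extZero c.j c.fbar d (by rw [c.fac]; exact hdim) _ (isTorsion_of_mono (kernel.ι φ) hF)
      (2 * d + 1) (by omega)
  exact (D.exact₃ _ h1 (2 * d) (2 * d + 1) rfl).epi_f (hz.eq_of_tgt _ _)

/-- The top direct image with proper support sees only dense opens in the fibres. -/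
theorem isIso_top {U Z : Scheme.{u}} (hdim : ∀ s : S, topologicalKrullDim ↥(f.fiber s) ≤ d)
    (j : U ⟶ X) [IsOpenImmersion j] (i : Z ⟶ X) [LocallyOfFiniteType i]
    (hij : Set.range j.base = (Set.range i.base)ᶜ)
    (hZ : ∀ s : S, topologicalKrullDim ↥((i ≫ f).fiber s) < d)
    (F : EtCoh.Ab X) (hF : EtCoh.IsTorsion F) :
    IsIso ((EtCoh.Rpush c.fbar (2 * d)).map
      ((EtShriek.extZero c.j).map ((EtShriek.extZeroAdj j).counit.app F))) := by
  haveI := EtJCont.jCont c.j
  haveI := EtJCont.jCont j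
  haveI := preservesFiniteLimits_extZero c.j
  haveI : PreservesColimitsOfSize.{0, 0} (EtShriek.extZero c.j) := (EtShriek.extZeroAdj c.j).leftAdjoint_preservesColimits
  haveI : PreservesFiniteColimits (EtShriek.extZero c.j) := PreservesColimitsOfSize.preservesFiniteColimits _
  let ε := (EtShriek.extZeroAdj j).counit.app F
  haveI : Mono ε := FLCLib.mono_counit j F
  have h0 : (ShortComplex.mk ε (cokernel.π ε) (cokernel.condition ε)).ShortExact :=
    { exact := ShortComplex.exact_of_g_is_cokernel _ (cokernelIsCokernel ε) }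
  have h1 := h0.map_of_exact (EtShriek.extZero c.j)
  obtain ⟨D⟩ := RDerLib.nonempty_derivedLES (EtCoh.push c.fbar)
  have hQ : EtCoh.IsTorsion ((EtShriek.extZero c.j).obj (cokernel ε)) :=
    CdFieldLib.isTorsion_extZero c.j (PBCLib.isTorsion_of_epi (cokernel.π ε) hF)
  have hsupp : ∀ (Ω : Type u) [Field Ω] [IsSepClosed Ω] (ξ : Spec (CommRingCat.of Ω) ⟶ S),
      ∀ z ∈ EtPBC.supp ((EtCoh.pull (pullback.fst c.fbar ξ)).obj ((EtShriek.extZero c.j).obj (cokernel ε))),
        Order.height z < d := by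
    intro Ω _ _ ξ z hz
    haveI : LocallyOfFiniteType ((i ≫ c.j) ≫ c.fbar) := inferInstance
    refine height_lt_of_fibre c.fbar (i ≫ c.j) d (fun s => by rw [Category.assoc, c.fac]; exact hZ s) ξ z ?_
    obtain ⟨Ω', _, _, ζ, rfl, hne⟩ := CdFieldLib.exists_default_of_mem_supp hz
    by_contra hc
    refine hne (IsZero.of_iso ?_ (CdFieldLib.stalkCompIso (pullback.fst c.fbar ξ) ζ _))
    by_cases hr : (ζ ≫ pullback.fst c.fbar ξ) default ∈ Set.range c.j
    · obtain ⟨η, hη⟩ := EtPtsLib.exists_comp_eq c.j _ hr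
      rw [← hη]
      obtain ⟨e⟩ := CdFieldLib.nonempty_stalk_extZero_open c.j (cokernel ε) η
      refine IsZero.of_iso ?_ e
      have hu : η default ∈ Set.range j := by
        rw [hij]
        rintro ⟨y, hy⟩
        exact hc ⟨y, by rw [Scheme.Hom.comp_apply, hy, ← Scheme.Hom.comp_apply, hη, Scheme.Hom.comp_apply]⟩
      obtain ⟨θ, rfl⟩ := EtPtsLib.exists_comp_eq j η hu
      haveI := FLCLib.isIso_stalk_counit_on j F θ
      haveI : Epi ((EtCoh.stalk (θ ≫ j)).map (cokernel.π ε)) :=
        (AddCommGrpCat.epi_iff_surjective _).2 ((EtPtsLib.epi_iff_ab (cokernel.π ε)).1 inferInstance Ω' (θ ≫ j))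
      haveI : IsIso ((EtCoh.stalk (θ ≫ j)).map ε) := FLCLib.isIso_stalk_counit_on j F θ
      refine IsZero.of_epi_eq_zero ((EtCoh.stalk (θ ≫ j)).map (cokernel.π ε)) ?_
      rw [← cancel_epi ((EtCoh.stalk (θ ≫ j)).map ε), ← Functor.map_comp, cokernel.condition, Functor.map_zero,
        comp_zero]
    · exact EtPtsLib.isZero_stalk_extZero c.j _ hr _
  have hz : ∀ q : ℕ, 2 * d < q + 2 → IsZero ((EtCoh.Rpush c.fbar q).obj ((EtShriek.extZero c.j).obj (cokernel ε))) :=
    fun q hq => isZero_Rpush_of_supp c.fbar d _ hQ hsupp q hq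
  haveI : Epi ((EtCoh.Rpush c.fbar (2 * d)).map ((EtShriek.extZero c.j).map ε)) :=
    (D.exact₂ _ h1 (2 * d)).epi_f ((hz (2 * d) (by omega)).eq_of_tgt _ _)
  haveI : Mono ((EtCoh.Rpush c.fbar (2 * d)).map ((EtShriek.extZero c.j).map ε)) := by
    obtain rfl | ⟨e, he⟩ : d = 0 ∨ ∃ e, 2 * d = e + 1 :=
      (Nat.eq_zero_or_pos d).imp id fun h => ⟨2 * d - 1, by omega⟩
    · haveI : Mono ((EtShriek.extZero c.j).map ε) := h1.mono_f
      haveI : PreservesFiniteLimits (EtCoh.push c.fbar) := by
        haveI : PreservesLimitsOfSize.{0, 0} (EtCoh.push c.fbar) := (EtCoh.pullPushAdj c.fbar).rightAdjoint_preservesLimits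
        exact PreservesLimitsOfSize.preservesFiniteLimits _
      show Mono (((EtCoh.push c.fbar).rightDerived 0).map ((EtShriek.extZero c.j).map ε))
      rw [← NatIso.naturality_1 (EtCoh.push c.fbar).rightDerivedZeroIsoSelf.symm]
      infer_instance
    · exact (D.exact₁ _ h1 e (2 * d) he.symm).mono_g ((hz e (by omega)).eq_of_src _ _)
  exact isIso_of_mono_of_epi _

end Groth.Agent.ShriekProper
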