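import Groth.Agent.ShriekProper.QFinite
import Groth.Agent.ShriekLib.Stalk
import Groth.Agent.FLCLib.Filtration
import Groth.Agent.KInj.Cover

/-!
# Direct images with proper support along quasi-finite maps are acyclic
-/

set_option autoImplicit false
set_option backward.isDefEq.respectTransparency false
set_option backward.isDefEq.respectTransparency.types false
set_option linter.style.haveILetI false
set_option linter.unusedSectionVars false
set_option maxHeartbeats 1000000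

universe u

open CategoryTheory CategoryTheory.Limits AlgebraicGeometry Opposite Groth.Agent.EtPtsLib

attribute [local instance] Groth.Agent.S0101.result

noncomputable section

namespace Groth.Agent.ShriekProper

/-- Stalks vanish outside the support. -/
theorem isZero_stalk_of_not_mem_supp {A : Scheme.{u}} {F : EtCoh.Ab A} {Ω : Type u} [Field Ω] [IsSepClosed Ω]
    (ξ : Spec (CommRingCat.of Ω) ⟶ A) (h : ξ default ∉ EtPBC.supp F) : IsZero ((EtCoh.stalk ξ).obj F) := by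
  by_contra hne
  exact h ⟨Ω, inferInstance, inferInstance, ξ, range_eq_singleton ξ, hne⟩

/-- The direct image with proper support lives on the image of the support. -/
theorem supp_lowerShriek_subset_image {A B : Scheme.{u}} (g : A ⟶ B) [IsSeparated g] [LocallyOfFiniteType g]
    [LocallyQuasiFinite g] (F : EtCoh.Ab A) :
    EtPBC.supp ((EtShriek.lowerShriek g).obj F) ⊆ g '' EtPBC.supp F := by
  intro y hy
  by_contra hc
  refine not_isZero_stalkAlg hy (IsZero.of_iso ?_ ((ShriekLib.stalkIso g (geomPtAlg y)).app F))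
  refine (IsZero.iff_id_eq_zero _).2 (colimit.hom_ext fun i => ?_)
  have hz : IsZero ((EtCoh.stalk i.as.1).obj F) := isZero_stalk_of_not_mem_supp i.as.1 fun hs =>
    hc ⟨_, hs, by rw [← Scheme.Hom.comp_apply, i.as.2, geomPtAlg_default]⟩
  exact (show IsZero (((ShriekLib.fibreStalks g (geomPtAlg y)).obj F).obj i) from hz).eq_of_src _ _

variable {X Y X' Y' : Scheme.{u}} (f : X ⟶ Y) [IsProper f] (g : Y' ⟶ Y) [IsSeparated g] [LocallyOfFiniteType g]
  [LocallyQuasiFinite g] (f' : X' ⟶ Y') [IsProper f'] (g' : X' ⟶ X) [IsSeparated g'] [LocallyOfFiniteType g']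
  [LocallyQuasiFinite g']

/-- A piece over a quasi-compact open lying over an affine open of the base. -/
theorem subsingleton_H_piece (w : g' ≫ f = f' ≫ g) (J : EtCoh.Ab X') (hJ : EtCoh.IsTorsion J) (q : ℕ)
    (hac : IsZero ((EtCoh.Rpush f' q).obj J)) (Y₀ : Y.Opens) (hY₀ : IsAffineOpen Y₀) (O : Y'.Opens)
    (hOc : IsCompact (O : Set Y')) (hO : O ≤ g ⁻¹ᵁ Y₀) (Js : EtCoh.Ab (f' ⁻¹ᵁ O).toScheme)
    (eJ : Js ≅ (EtCoh.pull (f' ⁻¹ᵁ O).ι).obj J) {Ω : Type u} [Field Ω] [IsSepClosed Ω]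
    (ξ : Spec (CommRingCat.of Ω) ⟶ Y) (hξ : ξ default ∈ Y₀) [EtShriek.JCont (f' ⁻¹ᵁ O).ι] :
    Subsingleton (EtCoh.H (pullback f ξ)
      ((EtCoh.pull (pullback.fst f ξ)).obj ((EtShriek.lowerShriek ((f' ⁻¹ᵁ O).ι ≫ g')).obj Js)) q) := by
  haveI : CompactSpace (Y₀ : Scheme.{u}) := isCompact_iff_compactSpace.mp hY₀.isCompact
  haveI : QuasiSeparatedSpace (Y₀ : Scheme.{u}) := isQuasiSeparated_iff_quasiSeparatedSpace _ Y₀.isOpen |>.mp hY₀.isQuasiSeparated
  haveI : CompactSpace (O : Scheme.{u}) := isCompact_iff_compactSpace.mp hOc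
  let a := (f' ⁻¹ᵁ O).ι
  let gV : (O : Scheme.{u}) ⟶ Y₀ := IsOpenImmersion.lift Y₀.ι (O.ι ≫ g) (by
    rintro _ ⟨z, rfl⟩
    rw [Scheme.Opens.range_ι]
    exact hO z.2)
  have hgV : gV ≫ Y₀.ι = O.ι ≫ g := IsOpenImmersion.lift_fac _ _ _
  haveI : IsSeparated (gV ≫ Y₀.ι) := by rw [hgV]; infer_instance
  haveI : IsSeparated gV := IsSeparated.of_comp gV Y₀.ι
  haveI : LocallyOfFiniteType (gV ≫ Y₀.ι) := by rw [hgV]; infer_instance
  haveI : LocallyOfFiniteType gV := locallyOfFiniteType_of_comp gV Y₀.ι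
  haveI : LocallyQuasiFinite (gV ≫ Y₀.ι) := by rw [hgV]; infer_instance
  haveI : LocallyQuasiFinite gV := LocallyQuasiFinite.of_comp gV Y₀.ι
  haveI : QuasiCompact gV := quasiCompact_of_compactSpace gV
  let fW := f' ∣_ O
  haveI : IsProper fW := MorphismProperty.of_isPullback (P := @IsProper) (isPullback_morphismRestrict f' O).flip inferInstance
  let X₀ := f ⁻¹ᵁ Y₀
  let m₀ : ((f' ⁻¹ᵁ O) : Scheme.{u}) ⟶ X₀ := IsOpenImmersion.lift X₀.ι (a ≫ g') (by
    rintro _ ⟨z, rfl⟩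
    rw [Scheme.Opens.range_ι]
    show f ((a ≫ g') z) ∈ Y₀
    rw [← Scheme.Hom.comp_apply, Category.assoc, w, ← Category.assoc, Scheme.Hom.comp_apply,
      Scheme.Hom.comp_apply]
    exact hO z.2)
  have hm₀ : m₀ ≫ X₀.ι = a ≫ g' := IsOpenImmersion.lift_fac _ _ _
  haveI : IsSeparated (m₀ ≫ X₀.ι) := by rw [hm₀]; infer_instance
  haveI : IsSeparated m₀ := IsSeparated.of_comp m₀ X₀.ι
  haveI : LocallyOfFiniteType (m₀ ≫ X₀.ι) := by rw [hm₀]; infer_instance
  haveI : LocallyOfFiniteType m₀ := locallyOfFiniteType_of_comp m₀ X₀.ι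
  haveI : LocallyQuasiFinite (m₀ ≫ X₀.ι) := by rw [hm₀]; infer_instance
  haveI : LocallyQuasiFinite m₀ := LocallyQuasiFinite.of_comp m₀ X₀.ι
  let f₀ := f ∣_ Y₀
  haveI : IsProper f₀ := MorphismProperty.of_isPullback (P := @IsProper) (isPullback_morphismRestrict f Y₀).flip inferInstance
  have w₀ : m₀ ≫ f₀ = fW ≫ gV := by
    rw [← cancel_mono Y₀.ι, Category.assoc, morphismRestrict_ι, ← Category.assoc, hm₀, Category.assoc, w,
      Category.assoc, hgV, ← Category.assoc fW, morphismRestrict_ι, Category.assoc]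
  have hJs : EtCoh.IsTorsion Js := PBCLib.isTorsion_of_epi eJ.inv (PBCCons.isTorsion_pull a hJ)
  have hacs : IsZero ((EtCoh.Rpush fW q).obj Js) := by
    haveI := BCVertLib.isIso_bcQ_etale f' O.ι fW a (isPullback_morphismRestrict f' O).flip q J
    exact (((EtCoh.pull O.ι).map_isZero hac).of_iso
      (asIso (EtBC.bcQ f' O.ι fW a (isPullback_morphismRestrict f' O).flip.w q J)).symm).of_iso
        ((EtCoh.Rpush fW q).mapIso eJ)
  have h₀ := isZero_Rpush_lowerShriek_qf f₀ gV fW m₀ w₀ Js hJs q hacs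
  haveI := EtJCont.jCont X₀.ι
  haveI := isIso_extZeroToLowerShriek_open X₀.ι
  haveI := isIso_unit_extZero X₀.ι
  let H := (EtShriek.lowerShriek m₀).obj Js
  let e₁ : (EtShriek.lowerShriek (a ≫ g')).obj Js ≅ (EtShriek.extZero X₀.ι).obj H :=
    (eqToIso (by rw [hm₀]) ≪≫ (ShriekLib.lowerShriekComp2Iso m₀ X₀.ι).symm ≪≫
      Functor.isoWhiskerLeft _ (asIso (ShriekLib.extZeroToLowerShriek X₀.ι)).symm).app Js
  have hG : EtCoh.IsTorsion ((EtShriek.lowerShriek (a ≫ g')).obj Js) := isTorsion_lowerShriek (a ≫ g') hJs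
  obtain ⟨ζ, rfl⟩ := EtPtsLib.exists_comp_eq Y₀.ι ξ (by rw [Scheme.Opens.range_ι]; exact hξ)
  obtain ⟨e⟩ := PBCLib.nonempty_stalk_Rpush_iso (fun {_ _} g _ => PBCLib.bcAll_of_proper g) f (ζ ≫ Y₀.ι)
    ((EtShriek.lowerShriek (a ≫ g')).obj Js) hG q
  haveI := BCVertLib.isIso_bcQ_etale f Y₀.ι f₀ X₀.ι (isPullback_morphismRestrict f Y₀).flip q
    ((EtShriek.lowerShriek (a ≫ g')).obj Js)
  let eH : (EtCoh.pull X₀.ι).obj ((EtShriek.lowerShriek (a ≫ g')).obj Js) ≅ H :=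
    (EtCoh.pull X₀.ι).mapIso e₁ ≪≫ (EtPtsLib.pullIsoRestr X₀.ι).app _ ≪≫
      ((asIso (EtShriek.extZeroAdj X₀.ι).unit).app H).symm
  exact AddCommGrpCat.subsingleton_of_isZero (IsZero.of_iso ((((EtCoh.stalk ζ).map_isZero h₀).of_iso
    ((EtCoh.stalk ζ).mapIso (asIso (EtBC.bcQ f Y₀.ι f₀ X₀.ι (isPullback_morphismRestrict f Y₀).flip.w q
        ((EtShriek.lowerShriek (a ≫ g')).obj Js)) ≪≫ (EtCoh.Rpush f₀ q).mapIso eH))).of_iso
      (CdFieldLib.stalkCompIso Y₀.ι ζ _).symm) e.symm)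

/-- `g'_!` of an acyclic torsion sheaf is acyclic. -/
theorem isZero_Rpush_lowerShriek_of_acyclic (w : g' ≫ f = f' ≫ g) (J : EtCoh.Ab X') (hJ : EtCoh.IsTorsion J) (q : ℕ)
    (hac : IsZero ((EtCoh.Rpush f' q).obj J)) : IsZero ((EtCoh.Rpush f q).obj ((EtShriek.lowerShriek g').obj J)) := by
  refine (EtPtsLib.isZero_iff_ab _).2 fun Ω _ _ ξ => ?_
  obtain ⟨e⟩ := PBCLib.nonempty_stalk_Rpush_iso (fun {_ _} g _ => PBCLib.bcAll_of_proper g) f ξ
    ((EtShriek.lowerShriek g').obj J) (isTorsion_lowerShriek g' hJ) q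
  suffices Subsingleton (EtCoh.H (pullback f ξ)
      ((EtCoh.pull (pullback.fst f ξ)).obj ((EtShriek.lowerShriek g').obj J)) q) from
    (AddCommGrpCat.isZero_of_subsingleton _).of_iso e
  let p := pullback.fst f ξ
  haveI := ShriekLib.preservesFiniteLimits g'
  haveI := ShriekLib.preservesColimitsOfSize g'
  haveI : PreservesColimitsOfSize.{0, 0} (EtShriek.lowerShriek g') := preservesColimitsOfSize_shrink.{0, u + 1, 0, u + 1} _
  haveI : PreservesFiniteColimits (EtShriek.lowerShriek g') := PreservesColimitsOfSize.preservesFiniteColimits _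
  haveI := BCDLib.rightExactPull p
  let Φ := EtShriek.lowerShriek g' ⋙ EtCoh.pull p
  obtain ⟨Y₀, hY₀, hξ, -⟩ := exists_isAffineOpen_mem_and_subset (X := Y) (x := ξ default) (U := ⊤) trivial
  -- only the part over the affine open matters
  let a₀ := (f' ⁻¹ᵁ (g ⁻¹ᵁ Y₀)).ι
  haveI := EtJCont.jCont a₀
  let ε := (EtShriek.extZeroAdj a₀).counit.app J
  haveI : Mono ε := FLCLib.mono_counit a₀ J
  have h0 : (ShortComplex.mk ε (cokernel.π ε) (cokernel.condition ε)).ShortExact :=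
    { exact := ShortComplex.exact_of_g_is_cokernel _ (cokernelIsCokernel ε) }
  have hQ : IsZero (Φ.obj (cokernel ε)) := by
    refine (EtPtsLib.isZero_iff_ab _).2 fun Ω' _ _ ζ => ?_
    refine IsZero.of_iso ?_ (CdFieldLib.stalkCompIso p ζ _)
    refine isZero_stalk_of_not_mem_supp (ζ ≫ p) fun hs => ?_
    obtain ⟨x, hx, hxy⟩ := supp_lowerShriek_subset_image g' (cokernel ε) hs
    obtain ⟨Ω'', _, _, θ, rfl, hne⟩ := CdFieldLib.exists_default_of_mem_supp hx
    have hmem : θ default ∈ Set.range a₀ := by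
      rw [Scheme.Opens.range_ι]
      show g (f' (θ default)) ∈ Y₀
      rw [← Scheme.Hom.comp_apply, ← w, Scheme.Hom.comp_apply, hxy]
      rw [← Scheme.Hom.comp_apply, Category.assoc, pullback.condition, ← Category.assoc, Scheme.Hom.comp_apply]
      convert hξ using 1
      exact congrArg ξ (Subsingleton.elim _ _)
    obtain ⟨θ₀, rfl⟩ := EtPtsLib.exists_comp_eq a₀ θ hmem
    haveI : IsIso ((EtCoh.stalk (θ₀ ≫ a₀)).map ε) := FLCLib.isIso_stalk_counit_on a₀ J θ₀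
    haveI : Epi ((EtCoh.stalk (θ₀ ≫ a₀)).map (cokernel.π ε)) :=
      (AddCommGrpCat.epi_iff_surjective _).2 ((EtPtsLib.epi_iff_ab (cokernel.π ε)).1 inferInstance Ω'' (θ₀ ≫ a₀))
    refine hne (IsZero.of_epi_eq_zero ((EtCoh.stalk (θ₀ ≫ a₀)).map (cokernel.π ε)) ?_)
    rw [← cancel_epi ((EtCoh.stalk (θ₀ ≫ a₀)).map ε), ← Functor.map_comp, cokernel.condition, Functor.map_zero,
      comp_zero]
  haveI : IsIso (Φ.map ε) := (h0.map_of_exact Φ).isIso_f_iff.2 hQ
  refine CdFieldLib.subsingleton_H_of_iso' (asIso (Φ.map ε)).symm q ?_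
  -- the colimit over the quasi-compact opens
  let J₀ := (EtShriek.extZero a₀).obj ((EtShriek.restrAlong a₀).obj J)
  let T := ULift.{u + 1} {O : Y'.Opens // IsCompact (O : Set Y') ∧ O ≤ g ⁻¹ᵁ Y₀}
  haveI : Nonempty T := ⟨⟨⟨⊥, by simp, bot_le⟩⟩⟩
  haveI : IsDirectedOrder T := ⟨fun s t => ⟨⟨⟨s.down.1 ⊔ t.down.1,
    by simpa using s.down.2.1.union t.down.2.1, sup_le s.down.2.2 t.down.2.2⟩⟩,
    show s.down.1 ≤ s.down.1 ⊔ t.down.1 from le_sup_left, show t.down.1 ≤ s.down.1 ⊔ t.down.1 from le_sup_right⟩⟩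
  haveI hj : ∀ s : T, EtShriek.JCont (f' ⁻¹ᵁ s.down.1).ι := fun s => EtJCont.jCont _
  let εs : ∀ s : T, _ ⟶ J₀ := fun s => (EtShriek.extZeroAdj (f' ⁻¹ᵁ s.down.1).ι).counit.app J₀
  haveI : ∀ s, Mono (εs s) := fun s => FLCLib.mono_counit _ J₀
  let E : T →o Subobject J₀ :=
    { toFun := fun s => Subobject.mk (εs s)
      monotone' := fun s t hst => by
        obtain ⟨ι, hι⟩ := FLCLib.exists_lift_extZero (f' ⁻¹ᵁ s.down.1).ι (εs t) (εs s) fun Ω' _ _ ζ => by
          obtain ⟨ζ', hζ'⟩ := EtPtsLib.exists_comp_eq (f' ⁻¹ᵁ t.down.1).ι (ζ ≫ (f' ⁻¹ᵁ s.down.1).ι) (by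
            rw [Scheme.Opens.range_ι, Scheme.Hom.comp_apply]
            exact (Scheme.Hom.preimage_mono f' hst) (ζ default).2)
          rw [← hζ']
          exact FLCLib.isIso_stalk_counit_on _ J₀ ζ'
        exact Subobject.mk_le_mk_of_comm ι hι }
  have hcov : ∀ {W : EtCoh.Ab X'} (h : J₀ ⟶ W), (∀ s, (E s).arrow ≫ h = 0) → h = 0 := fun {W} h hh => by
    have hs : ∀ s, εs s ≫ h = 0 := fun s => by
      rw [← Subobject.underlyingIso_arrow (εs s), Category.assoc]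
      show _ ≫ (E s).arrow ≫ h = 0
      rw [hh s, comp_zero]
    haveI : Epi (kernel.ι h) := (EtPtsLib.epi_iff_ab _).2 fun Ω' _ _ θ b => by
      by_cases hθ : θ default ∈ Set.range a₀
      · have hθ' : f' (θ default) ∈ g ⁻¹ᵁ Y₀ := by rwa [Scheme.Opens.range_ι] at hθ
        obtain ⟨O, hO, hθO, hOle⟩ := exists_isAffineOpen_mem_and_subset hθ'
        let s : T := ⟨⟨O, hO.isCompact, hOle⟩⟩
        obtain ⟨θ', hθ''⟩ := EtPtsLib.exists_comp_eq (f' ⁻¹ᵁ O).ι θ (by rw [Scheme.Opens.range_ι]; exact hθO)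
        haveI := FLCLib.isIso_stalk_counit_on (f' ⁻¹ᵁ O).ι J₀ θ'
        subst hθ''
        obtain ⟨c, hc⟩ := (ConcreteCategory.bijective_of_isIso
          ((EtCoh.stalk (θ' ≫ (f' ⁻¹ᵁ O).ι)).map (εs s))).2 b
        refine ⟨(EtCoh.stalk _).map (kernel.lift h (εs s) (hs s)) c, ?_⟩
        refine (ConcreteCategory.comp_apply _ _ c).symm.trans ?_
        rw [← Functor.map_comp, kernel.lift_ι]
        exact hc
      · haveI := AddCommGrpCat.subsingleton_of_isZero (EtPtsLib.isZero_stalk_extZero a₀ θ hθ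
          ((EtShriek.restrAlong a₀).obj J))
        exact ⟨0, @Subsingleton.elim _ (show Subsingleton ((EtCoh.stalk θ).obj J₀) from this) _ _⟩
    rw [← cancel_epi (kernel.ι h), kernel.condition, comp_zero]
  haveI : IsFiltered T := isFiltered_of_directed_le_nonempty T
  refine subsingleton_of_forall_eq 0 fun x => ?_
  haveI : QuasiSeparatedSpace ↥(pullback f ξ) := quasiSeparatedSpace_of_quasiSeparated (pullback.snd f ξ)
  haveI : CompactSpace ↥(pullback f ξ) := QuasiCompact.compactSpace_of_compactSpace (pullback.snd f ξ)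
  haveI := CohColim.preserves_HF (X := pullback f ξ) q T
  haveI : PreservesColimitsOfSize.{u + 1, u + 1} (EtCoh.pull p) := (EtCoh.pullPushAdj p).leftAdjoint_preservesColimits
  obtain ⟨s, y, hy⟩ := Concrete.isColimit_exists_rep (KInj.subFunctor E ⋙ Φ ⋙ EtCoh.HF (pullback f ξ) q)
    (isColimitOfPreserves (Φ ⋙ EtCoh.HF (pullback f ξ) q) (KInj.isColimitSubCocone E (KInj.iSup_eq_top_of_cover (fun s => E s) fun h hh => hcov h hh))) x
  have hs : Subsingleton (EtCoh.H (pullback f ξ) (Φ.obj ((KInj.subFunctor E).obj s)) q) := by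
    haveI := isIso_extZeroToLowerShriek_open (f' ⁻¹ᵁ s.down.1).ι
    let a := (f' ⁻¹ᵁ s.down.1).ι
    let Js := (EtShriek.restrAlong a).obj J₀
    let eS : (EtShriek.lowerShriek g').obj ((KInj.subFunctor E).obj s) ≅ (EtShriek.lowerShriek (a ≫ g')).obj Js :=
      (EtShriek.lowerShriek g').mapIso (Subobject.underlyingIso (εs s)) ≪≫
        (Functor.isoWhiskerRight (asIso (ShriekLib.extZeroToLowerShriek a)) _ ≪≫
          ShriekLib.lowerShriekComp2Iso a g').app Js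
    haveI : IsIso ((EtCoh.pull a).map ε) := FLCLib.isIso_of_stalk _ fun Ω' _ _ ζ => by
      obtain ⟨ζ', hζ'⟩ := EtPtsLib.exists_comp_eq a₀ (ζ ≫ a) (by
        rw [Scheme.Opens.range_ι, Scheme.Hom.comp_apply]
        exact (Scheme.Hom.preimage_mono f' s.down.2.2) (ζ default).2)
      haveI : IsIso ((EtCoh.stalk (ζ ≫ a)).map ε) := hζ' ▸ FLCLib.isIso_stalk_counit_on a₀ J ζ'
      exact (NatIso.isIso_map_iff (FLCLib.stalkPullIso a ζ) ε).2 inferInstance
    let eJ : Js ≅ (EtCoh.pull a).obj J := ((EtPtsLib.pullIsoRestr a).app J₀).symm ≪≫ asIso ((EtCoh.pull a).map ε)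
    haveI := subsingleton_H_piece f g f' g' w J hJ q hac Y₀ hY₀ s.down.1 s.down.2.1 s.down.2.2 Js eJ ξ hξ
    exact CdFieldLib.subsingleton_H_of_iso' ((EtCoh.pull p).mapIso eS) q this
  rw [← hy, @Subsingleton.elim _ hs y 0]
  exact map_zero _

end Groth.Agent.ShriekProper
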