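import Groth.Agent.ShriekProper.Indep
import Groth.Agent.BCVertLib.EtaleBCQ

/-!
# Extension by zero commutes with proper direct images
-/

set_option autoImplicit false
set_option backward.isDefEq.respectTransparency false
set_option backward.isDefEq.respectTransparency.types false
set_option linter.style.haveILetI false
set_option linter.unusedSectionVars false
set_option maxHeartbeats 1000000

universe u

open CategoryTheory CategoryTheory.Limits AlgebraicGeometry Opposite

attribute [local instance] HasDerivedCategory.standard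
attribute [local instance] Groth.Agent.S0101.result

noncomputable section

namespace Groth.Agent.ShriekProper

variable {U P Y Q : Scheme.{u}} {π : P ⟶ Q} {j : Y ⟶ Q} {fU : U ⟶ Y} {jU : U ⟶ P}

/-- Over an open, the direct image of an extension by zero has no higher part beyond that of the open. -/
theorem isZero_Rpush_extZero_of_open [IsProper π] [IsOpenImmersion j] [IsOpenImmersion jU] [EtShriek.JCont jU]
    (h : IsPullback jU fU π j) (T : EtCoh.Ab U) (hT : EtCoh.IsTorsion T) (q : ℕ)
    (hac : IsZero ((EtCoh.Rpush fU q).obj T)) :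
    IsZero ((EtCoh.Rpush π q).obj ((EtShriek.extZero jU).obj T)) := by
  refine (EtPtsLib.isZero_iff_ab _).2 fun Ω _ _ ξ => ?_
  have hG := CdFieldLib.isTorsion_extZero jU hT
  by_cases hξ : ξ default ∈ Set.range j
  · obtain ⟨ζ, rfl⟩ := EtPtsLib.exists_comp_eq j ξ hξ
    haveI := BCVertLib.isIso_bcQ_etale π j fU jU h q ((EtShriek.extZero jU).obj T)
    haveI := EtPtsLib.isIso_unit_extZero jU
    let e : (EtCoh.pull jU).obj ((EtShriek.extZero jU).obj T) ≅ T :=
      (EtPtsLib.pullIsoRestr jU).app _ ≪≫ ((asIso (EtShriek.extZeroAdj jU).unit).app T).symm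
    exact (((EtCoh.stalk ζ).map_isZero hac).of_iso
      ((EtCoh.stalk ζ).mapIso (asIso (EtBC.bcQ π j fU jU h.w q ((EtShriek.extZero jU).obj T)) ≪≫
        (EtCoh.Rpush fU q).mapIso e))).of_iso (CdFieldLib.stalkCompIso j ζ _).symm
  · obtain ⟨e⟩ := PBCLib.nonempty_stalk_Rpush_iso (fun {_ _} g _ => PBCLib.bcAll_of_proper g) π ξ
      ((EtShriek.extZero jU).obj T) hG q
    have hz : IsZero ((EtCoh.pull (pullback.fst π ξ)).obj ((EtShriek.extZero jU).obj T)) := by
      refine (EtPtsLib.isZero_iff_ab _).2 fun Ω' _ _ ζ => ?_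
      refine IsZero.of_iso (EtPtsLib.isZero_stalk_extZero jU (ζ ≫ pullback.fst π ξ) ?_ T)
        (CdFieldLib.stalkCompIso (pullback.fst π ξ) ζ _)
      rintro ⟨u, hu⟩
      refine hξ ⟨fU u, ?_⟩
      have h1 : ζ ≫ pullback.fst π ξ ≫ π = (ζ ≫ pullback.snd π ξ) ≫ ξ := by rw [pullback.condition, Category.assoc]
      rw [← Scheme.Hom.comp_apply, ← h.w, Scheme.Hom.comp_apply, hu, ← Scheme.Hom.comp_apply, Category.assoc, h1,
        Scheme.Hom.comp_apply]
      exact congrArg ξ (Subsingleton.elim _ _)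
    haveI : Subsingleton (EtCoh.H (pullback π ξ)
        ((EtCoh.pull (pullback.fst π ξ)).obj ((EtShriek.extZero jU).obj T)) q) :=
      AddCommGrpCat.subsingleton_of_isZero ((EtCoh.HF (pullback π ξ) q).map_isZero hz)
    exact (AddCommGrpCat.isZero_of_subsingleton _).of_iso e

/-- Extensions by zero compose. -/
def extZeroCompIso {A B C : Scheme.{u}} (a : A ⟶ B) (b : B ⟶ C) (c : A ⟶ C) (w : a ≫ b = c) [IsOpenImmersion a]
    [IsOpenImmersion b] [IsOpenImmersion c] [EtShriek.JCont a] [EtShriek.JCont b] [EtShriek.JCont c] :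
    EtShriek.extZero a ⋙ EtShriek.extZero b ≅ EtShriek.extZero c :=
  haveI := isIso_extZeroToLowerShriek_open a
  haveI := isIso_extZeroToLowerShriek_open b
  haveI := isIso_extZeroToLowerShriek_open c
  Functor.isoWhiskerRight (asIso (ShriekLib.extZeroToLowerShriek a)) _ ≪≫
    Functor.isoWhiskerLeft _ (asIso (ShriekLib.extZeroToLowerShriek b)) ≪≫
      ShriekLib.lowerShriekComp2Iso a b ≪≫ eqToIso (by rw [w]) ≪≫ (asIso (ShriekLib.extZeroToLowerShriek c)).symm

/-- Direct image and extension by zero commute. -/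
def pushExtZeroIso (π : P ⟶ Q) (j : Y ⟶ Q) (fU : U ⟶ Y) (jU : U ⟶ P) [IsProper π] [IsProper fU] [IsOpenImmersion j]
    [IsOpenImmersion jU] [EtShriek.JCont j] [EtShriek.JCont jU] (w : jU ≫ π = fU ≫ j) :
    EtShriek.extZero jU ⋙ EtCoh.push π ≅ EtCoh.push fU ⋙ EtShriek.extZero j :=
  haveI := isIso_extZeroToLowerShriek_open jU
  haveI := isIso_extZeroToLowerShriek_open j
  Functor.isoWhiskerRight (asIso (ShriekLib.extZeroToLowerShriek jU)) _ ≪≫ lowerShriekPushCompIso jU π ≪≫
    eqToIso (by rw [w]) ≪≫ (ShriekLib.lowerShriekComp2Iso fU j).symm ≪≫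
      Functor.isoWhiskerRight (ShriekLib.lowerShriekPushIso fU) _ ≪≫
        Functor.isoWhiskerLeft _ (asIso (ShriekLib.extZeroToLowerShriek j)).symm

/-- `j_!` commutes with proper derived direct images. -/
theorem nonempty_extZeroD_Rpush (π : P ⟶ Q) (j : Y ⟶ Q) (fU : U ⟶ Y) (jU : U ⟶ P) [IsProper π]
    [IsOpenImmersion j] [IsOpenImmersion jU] (h : IsPullback jU fU π j) [EtShriek.JCont j] [EtShriek.JCont jU]
    [PreservesFiniteLimits (EtShriek.extZero j)] [PreservesFiniteLimits (EtShriek.extZero jU)]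
    [DCoh.HasRpushEt U fU] [DCoh.HasRpushEt P π] (L : DCoh.DEt U) (a : ℤ) [L.IsGE a]
    (hL : ∀ i : ℤ, EtCoh.IsTorsion (DCoh.HDEt L i)) :
    Nonempty ((DEt.extZeroD j).obj ((DCoh.RpushEt U fU).obj L) ≅
      (DCoh.RpushEt P π).obj ((DEt.extZeroD jU).obj L)) := by
  haveI : IsProper fU := MorphismProperty.of_isPullback (P := @IsProper) h inferInstance
  haveI : PreservesColimitsOfSize.{0, 0} (EtShriek.extZero j) := (EtShriek.extZeroAdj j).leftAdjoint_preservesColimits
  haveI : PreservesFiniteColimits (EtShriek.extZero j) := PreservesColimitsOfSize.preservesFiniteColimits _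
  haveI : PreservesColimitsOfSize.{0, 0} (EtShriek.extZero jU) :=
    (EtShriek.extZeroAdj jU).leftAdjoint_preservesColimits
  haveI : PreservesFiniteColimits (EtShriek.extZero jU) := PreservesColimitsOfSize.preservesFiniteColimits _
  obtain ⟨T, hT, hTt, hac, ⟨eT⟩⟩ := exists_torsion_model L a hL
  haveI := hT
  obtain ⟨e₁⟩ := nonempty_Rpush_Q fU T a fun n p => hac fU n p
  let T' : CochainComplex (EtCoh.Ab P) ℤ :=
    ((EtShriek.extZero jU).mapHomologicalComplex (ComplexShape.up ℤ)).obj T
  haveI : T'.IsStrictlyGE a := (CochainComplex.isStrictlyGE_iff T' a).2 fun i hi =>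
    (EtShriek.extZero jU).map_isZero (CochainComplex.isZero_of_isStrictlyGE T a i hi)
  obtain ⟨e₂⟩ := nonempty_Rpush_Q π T' a fun n p =>
    isZero_Rpush_extZero_of_open h (T.X n) (hTt n) (p + 1) (hac fU n p)
  let α := pushExtZeroIso π j fU jU h.w
  let eC : ((EtShriek.extZero j).mapHomologicalComplex (ComplexShape.up ℤ)).obj
      (((EtCoh.push fU).mapHomologicalComplex (ComplexShape.up ℤ)).obj T) ≅
      ((EtCoh.push π).mapHomologicalComplex (ComplexShape.up ℤ)).obj T' :=
    HomologicalComplex.Hom.isoOfComponents (fun i => (α.app (T.X i)).symm)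
      (fun i k _ => (α.inv.naturality (T.d i k)).symm)
  exact ⟨(DEt.extZeroD j).mapIso ((DCoh.RpushEt U fU).mapIso eT.symm ≪≫ e₁) ≪≫
    (EtShriek.extZero j).mapDerivedCategoryFactors.app _ ≪≫ DerivedCategory.Q.mapIso eC ≪≫ e₂.symm ≪≫
    (DCoh.RpushEt P π).mapIso (((EtShriek.extZero jU).mapDerivedCategoryFactors.app T).symm ≪≫
      (DEt.extZeroD jU).mapIso eT)⟩

/-- Extensions by zero compose on the derived category. -/
theorem nonempty_extZeroD_comp {A B C : Scheme.{u}} (a : A ⟶ B) (b : B ⟶ C) (c : A ⟶ C) (w : a ≫ b = c)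
    [IsOpenImmersion a] [IsOpenImmersion b] [IsOpenImmersion c] [EtShriek.JCont a] [EtShriek.JCont b]
    [EtShriek.JCont c] [PreservesFiniteLimits (EtShriek.extZero a)] [PreservesFiniteLimits (EtShriek.extZero b)]
    [PreservesFiniteLimits (EtShriek.extZero c)] (K : DCoh.DEt A) :
    Nonempty ((DEt.extZeroD b).obj ((DEt.extZeroD a).obj K) ≅ (DEt.extZeroD c).obj K) := by
  haveI : PreservesColimitsOfSize.{0, 0} (EtShriek.extZero a) := (EtShriek.extZeroAdj a).leftAdjoint_preservesColimits
  haveI : PreservesFiniteColimits (EtShriek.extZero a) := PreservesColimitsOfSize.preservesFiniteColimits _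
  haveI : PreservesColimitsOfSize.{0, 0} (EtShriek.extZero b) := (EtShriek.extZeroAdj b).leftAdjoint_preservesColimits
  haveI : PreservesFiniteColimits (EtShriek.extZero b) := PreservesColimitsOfSize.preservesFiniteColimits _
  haveI : PreservesColimitsOfSize.{0, 0} (EtShriek.extZero c) := (EtShriek.extZeroAdj c).leftAdjoint_preservesColimits
  haveI : PreservesFiniteColimits (EtShriek.extZero c) := PreservesColimitsOfSize.preservesFiniteColimits _
  let T := DerivedCategory.Q.objPreimage K
  let eT : DerivedCategory.Q.obj T ≅ K := DerivedCategory.Q.objObjPreimageIso K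
  let α := extZeroCompIso a b c w
  let eC : ((EtShriek.extZero b).mapHomologicalComplex (ComplexShape.up ℤ)).obj
      (((EtShriek.extZero a).mapHomologicalComplex (ComplexShape.up ℤ)).obj T) ≅
      ((EtShriek.extZero c).mapHomologicalComplex (ComplexShape.up ℤ)).obj T :=
    HomologicalComplex.Hom.isoOfComponents (fun i => α.app (T.X i))
      (fun i k _ => (α.hom.naturality (T.d i k)).symm)
  exact ⟨(DEt.extZeroD b).mapIso ((DEt.extZeroD a).mapIso eT.symm ≪≫
      (EtShriek.extZero a).mapDerivedCategoryFactors.app T) ≪≫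
    (EtShriek.extZero b).mapDerivedCategoryFactors.app _ ≪≫ DerivedCategory.Q.mapIso eC ≪≫
    ((EtShriek.extZero c).mapDerivedCategoryFactors.app T).symm ≪≫ (DEt.extZeroD c).mapIso eT⟩

end Groth.Agent.ShriekProper
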