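import Groth.Agent.CdFieldLib.Shriek
import Groth.Agent.CdFieldLib.RelCd
import Groth.Agent.ShriekLib.Stalk
import Groth.Agent.ShriekLib.Proper

/-!
# Direct images with proper support: support and torsion
-/

set_option autoImplicit false
set_option backward.isDefEq.respectTransparency false
set_option backward.isDefEq.respectTransparency.types false
set_option linter.style.haveILetI false
set_option maxHeartbeats 1000000

universe u

open CategoryTheory CategoryTheory.Limits AlgebraicGeometry Opposite Groth.Agent.EtPtsLib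

noncomputable section

namespace Groth.Agent.ShriekProper

variable {X Y : Scheme.{u}}

/-- Points of the support are seen by the algebraically closed geometric point. -/
theorem not_isZero_stalkAlg {F : EtCoh.Ab Y} {y : Y} (h : y ∈ EtPBC.supp F) :
    ¬ IsZero ((EtCoh.stalk (geomPtAlg y)).obj F) := by
  simp only [supp_eq_iUnion, Set.mem_iUnion, Set.mem_image] at h
  obtain ⟨U, s, x, hx, hxy⟩ := h
  subst hxy
  obtain ⟨l, hl⟩ := Scheme.pointSmallEtaleFiberObjToPreimage_surjective (geomPtAlg (U.hom x))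
    (geomPtAlg_default _) U ⟨x, by simp⟩
  have hl' : liftHom _ l default = x := congrArg Subtype.val hl
  intro hz
  haveI := AddCommGrpCat.subsingleton_of_isZero hz
  exact (germ_eq_zero_iff _ F l s).1 (Subsingleton.elim _ _) (hl'.symm ▸ hx)

/-- Torsion is seen by algebraically closed geometric points. -/
theorem isTorsion_of_algStalks {F : EtCoh.Ab Y}
    (h : ∀ (y : Y) (b : (EtCoh.stalk (geomPtAlg y)).obj F), IsOfFinAddOrder b) : EtCoh.IsTorsion F := by
  refine EtClosedPts.isTorsion_of_stalks fun Ω _ _ ξ b => ?_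
  obtain ⟨U, l, s, rfl⟩ := (Scheme.pointSmallEtale ξ).toPresheafFiber_jointly_surjective b
  obtain ⟨l', hl⟩ := Scheme.pointSmallEtaleFiberObjToPreimage_surjective (geomPtAlg (U.hom (liftHom ξ l default)))
    (geomPtAlg_default _) U ⟨liftHom ξ l default, by simp⟩
  have hl' : liftHom _ l' default = liftHom ξ l default := congrArg Subtype.val hl
  obtain ⟨n, hn, hn0⟩ := isOfFinAddOrder_iff_nsmul_eq_zero.1 (h _ (germ _ F l' s))
  refine isOfFinAddOrder_iff_nsmul_eq_zero.2 ⟨n, hn, (map_nsmul _ n s).symm.trans ?_⟩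
  refine (germ_eq_zero_iff ξ F l (n • s)).2 ?_
  exact hl' ▸ (germ_eq_zero_iff _ F l' (n • s)).1 ((map_nsmul _ n s).trans hn0)

variable (f : X ⟶ Y) [IsSeparated f] [LocallyOfFiniteType f] [LocallyQuasiFinite f]

/-- The direct image with proper support lives on the image. -/
theorem supp_lowerShriek_subset (F : EtCoh.Ab X) : EtPBC.supp ((EtShriek.lowerShriek f).obj F) ⊆ Set.range f := by
  intro y hy
  by_contra hc
  haveI : IsEmpty (EtaleSplit.GPts f (geomPtAlg y)) :=
    ⟨fun ζ => hc ⟨ζ.1 default, by rw [← Scheme.Hom.comp_apply, ζ.2, geomPtAlg_default]⟩⟩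
  refine not_isZero_stalkAlg hy (IsZero.of_iso ?_ ((ShriekLib.stalkIso f (geomPtAlg y)).app F))
  refine (IsZero.iff_id_eq_zero _).2 (colimit.hom_ext fun i => isEmptyElim i.as)

theorem isTorsion_lowerShriek {F : EtCoh.Ab X} (hF : EtCoh.IsTorsion F) :
    EtCoh.IsTorsion ((EtShriek.lowerShriek f).obj F) := by
  refine isTorsion_of_algStalks fun y b => ?_
  let e := (ShriekLib.stalkIso f (geomPtAlg y)).app F
  suffices h : ∀ c : ToType ((ShriekLib.fibreStalks f (geomPtAlg y) ⋙ colim).obj F), IsOfFinAddOrder c from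
    (e.hom_inv_id_apply b) ▸ e.inv.hom.isOfFinAddOrder (h (e.hom b))
  intro c
  let D := (ShriekLib.fibreStalks f (geomPtAlg y)).obj F
  have key : ∀ (ζ : EtaleSplit.GPts f (geomPtAlg y)) (a : D.obj ⟨ζ⟩), IsOfFinAddOrder a := fun ζ a =>
    EtClosedPts.isOfFinAddOrder_of_isTorsion ζ.1 hF a
  -- the elements of finite order receive every summand
  let T : AddSubgroup (ToType (colimit D)) := AddCommGroup.torsion _
  let p : colimit D ⟶ AddCommGrpCat.of (ToType (colimit D) ⧸ T) := AddCommGrpCat.ofHom (QuotientAddGroup.mk' T)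
  have hp : p = 0 := colimit.hom_ext fun i => by
    ext a
    rw [comp_zero]
    exact (QuotientAddGroup.eq_zero_iff _).2 ((colimit.ι D i).hom.isOfFinAddOrder (key i.as a))
  have h1 : p c = 0 := by rw [hp]; rfl
  exact (QuotientAddGroup.eq_zero_iff _).1 h1

/-- Direct images with proper support respect the support in the geometric fibres. -/
theorem height_eq_zero_of_mem_supp_fibre {Z : Scheme.{u}} (h : Y ⟶ Z) [IsProper h] [LocallyQuasiFinite (f ≫ h)]
    {Ω : Type u} [Field Ω] [IsSepClosed Ω] (ξ : Spec (CommRingCat.of Ω) ⟶ Z) (F : EtCoh.Ab X)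
    {w : ↥(pullback h ξ)}
    (hw : w ∈ EtPBC.supp ((EtCoh.pull (pullback.fst h ξ)).obj ((EtShriek.lowerShriek f).obj F))) :
    Order.height w = 0 := by
  obtain ⟨Ω', _, _, ζ, rfl, hne⟩ := CdFieldLib.exists_default_of_mem_supp hw
  have hy : pullback.fst h ξ (ζ default) ∈ Set.range f := by
    refine supp_lowerShriek_subset f F ?_
    rw [← Scheme.Hom.comp_apply]
    exact ⟨Ω', inferInstance, inferInstance, ζ ≫ pullback.fst h ξ, range_eq_singleton _, fun hz => hne
      (hz.of_iso (CdFieldLib.stalkCompIso (pullback.fst h ξ) ζ ((EtShriek.lowerShriek f).obj F)))⟩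
  obtain ⟨x, hx⟩ := hy
  let m : pullback (f ≫ h) ξ ⟶ pullback h ξ := pullback.map (f ≫ h) ξ h ξ f (𝟙 _) (𝟙 _) (by simp) (by simp)
  have hm₁ : m ≫ pullback.fst h ξ = pullback.fst (f ≫ h) ξ ≫ f := pullback.lift_fst _ _ _
  have hm₂ : m ≫ pullback.snd h ξ = pullback.snd (f ≫ h) ξ := (pullback.lift_snd _ _ _).trans (Category.comp_id _)
  have hsq : IsPullback (pullback.fst (f ≫ h) ξ) m f (pullback.fst h ξ) :=
    IsPullback.of_bot (hm₂.symm ▸ IsPullback.of_hasPullback (f ≫ h) ξ) hm₁.symm (IsPullback.of_hasPullback h ξ)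
  obtain ⟨v, -, hv⟩ := Scheme.exists_preimage_of_isPullback hsq x (ζ default) hx
  rw [← hv]
  let g := pullback.snd h ξ
  haveI : LocallyOfFiniteType g := MorphismProperty.pullback_snd _ _ inferInstance
  haveI : LocallyQuasiFinite (pullback.snd (f ≫ h) ξ) := MorphismProperty.pullback_snd _ _ inferInstance
  haveI : LocallyOfFiniteType (pullback.snd (f ≫ h) ξ) := MorphismProperty.pullback_snd _ _ inferInstance
  have h0 : Order.height v = 0 := by
    refine le_antisymm ((CdFieldLib.height_le_of_quasiFinite (pullback.snd (f ≫ h) ξ) v).trans ?_) zero_le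
    exact (Order.height_eq_zero.2 fun a _ => le_of_eq (Subsingleton.elim _ _)).le
  obtain ⟨t, ht, htr⟩ := CdFieldLib.exists_height_trdeg g (m v)
  obtain ⟨t', ht', htr'⟩ := CdFieldLib.exists_height_trdeg (pullback.snd (f ≫ h) ξ) v
  have e : (m.residueFieldMap v).hom.comp (CdFieldLib.resHom g (m v)) = CdFieldLib.resHom (pullback.snd (f ≫ h) ξ) v :=
    congrArg CommRingCat.Hom.hom
    (Spec.map_injective (show Spec.map (CommRingCat.ofHom (CdFieldLib.resHom g (m v)) ≫ m.residueFieldMap v) =
        Spec.map (CommRingCat.ofHom (CdFieldLib.resHom (pullback.snd (f ≫ h) ξ) v)) by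
      rw [Spec.map_comp, CdFieldLib.specMap_resHom, CdFieldLib.specMap_resHom, ← Category.assoc,
        Scheme.Hom.SpecMap_residueFieldMap_fromSpecResidueField, Category.assoc, hm₂]))
  letI := (CdFieldLib.resHom g (m v)).toAlgebra
  letI := (CdFieldLib.resHom (pullback.snd (f ≫ h) ξ) v).toAlgebra
  let φ : (pullback h ξ).residueField (m v) →ₐ[Ω] (pullback (f ≫ h) ξ).residueField v :=
    AlgHom.mk' (m.residueFieldMap v).hom fun c a => by
      rw [Algebra.smul_def, Algebra.smul_def, map_mul]
      exact congrArg (· * _) (RingHom.congr_fun e c)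
  have hle := trdeg_le_of_injective φ (m.residueFieldMap v).hom.injective
  have hle' : t ≤ t' := Nat.cast_le.1 ((htr.symm.trans_le hle).trans_eq htr')
  rw [ht', Nat.cast_eq_zero] at h0
  rw [ht, Nat.cast_eq_zero]
  omega

end Groth.Agent.ShriekProper
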